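import Groth.Agent.FlatMor.K596.ApxNbhd
import Groth.Agent.S0543
import Groth.Agent.S2734

/-!
# Artin approximation: the case of the completion of the local ring
-/

set_option autoImplicit false

universe u

open AlgebraicGeometry CategoryTheory IsLocalRing

namespace Groth.Agent.FlatMor.K596.ApxCpl

open ApxNbhd

theorem residueFieldMap_bijective {U X : Scheme.{u}} (e : U ⟶ X) (v : U)
    (h : IsCplMap (e.stalkMap v).hom) : Function.Bijective (e.residueFieldMap v) := by
  refine ⟨(e.residueFieldMap v).hom.injective, fun z => ?_⟩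
  obtain ⟨z, rfl⟩ := IsLocalRing.residue_surjective z
  obtain ⟨r, hr⟩ := h.exists_sub 1 z
  rw [pow_one, ← residue_eq_zero_iff, map_sub, sub_eq_zero] at hr
  refine ⟨IsLocalRing.residue _ r, ?_⟩
  exact hr.symm

theorem isNoetherianRing_cpl (R : Type u) [CommRing R] [IsLocalRing R] [IsNoetherianRing R] :
    IsNoetherianRing (AdicCompletion (maximalIdeal R) R) :=
  Groth.Agent.S0543.result R _

theorem sub_mem_of_evalₐ {R : Type u} [CommRing R] [IsLocalRing R] [IsNoetherianRing R] {n : ℕ}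
    {z : AdicCompletion (maximalIdeal R) R} {r : R}
    (h : AdicCompletion.evalₐ (maximalIdeal R) n z = Ideal.Quotient.mk (maximalIdeal R ^ n) r) :
    z - algebraMap R _ r ∈ maximalIdeal (AdicCompletion (maximalIdeal R) R) ^ n := by
  rw [AdicCompletion.maximalIdeal_eq_map,
    K359.EtaleSolve.mem_pow_map_iff (maximalIdeal R) (IsNoetherian.noetherian _), map_sub, h,
    sub_eq_zero]
  exact ((AdicCompletion.evalₐ (maximalIdeal R) n).commutes r).symm

theorem evalₐ_eq_of_sub_mem {R : Type u} [CommRing R] [IsLocalRing R] [IsNoetherianRing R] {n : ℕ}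
    {z : AdicCompletion (maximalIdeal R) R} {r : R}
    (h : z - algebraMap R _ r ∈ maximalIdeal (AdicCompletion (maximalIdeal R) R) ^ n) :
    AdicCompletion.evalₐ (maximalIdeal R) n z = Ideal.Quotient.mk (maximalIdeal R ^ n) r := by
  rw [AdicCompletion.maximalIdeal_eq_map,
    K359.EtaleSolve.mem_pow_map_iff (maximalIdeal R) (IsNoetherian.noetherian _), map_sub,
    sub_eq_zero] at h
  rw [h]
  exact (AdicCompletion.evalₐ (maximalIdeal R) n).commutes r

/-- The hypothesis on `φ` as an equality of morphisms of schemes. -/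
theorem spec_eq {X Y S : Scheme.{u}} (p : X ⟶ S) (q : Y ⟶ S) (x : X) (y : Y) (hxy : p x = q y)
    {C : Type u} [CommRing C] (φ : Y.presheaf.stalk y →+* C) (θ : X.presheaf.stalk x →+* C)
    (hφ : φ.comp ((q.stalkMap y).hom.comp (S.presheaf.stalkCongr (.of_eq hxy)).hom.hom) =
      θ.comp (p.stalkMap x).hom) :
    Spec.map (CommRingCat.ofHom φ) ≫ Y.fromSpecStalk y ≫ q =
      Spec.map (CommRingCat.ofHom θ) ≫ X.fromSpecStalk x ≫ p := by
  have h1 : (S.presheaf.stalkCongr (.of_eq hxy)).hom ≫ q.stalkMap y ≫ CommRingCat.ofHom φ =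
      p.stalkMap x ≫ CommRingCat.ofHom θ := by
    ext1
    exact hφ
  rw [← Scheme.SpecMap_stalkMap_fromSpecStalk p, ← Scheme.SpecMap_stalkMap_fromSpecStalk q,
    ← stalkCongr_fromSpecStalk' (.of_eq hxy), ← Spec.map_comp_assoc, ← Spec.map_comp_assoc,
    ← Spec.map_comp_assoc]
  exact congrArg (fun g => Spec.map g ≫ S.fromSpecStalk (p x)) h1

theorem stalk_eq {U X : Scheme.{u}} (e : U ⟶ X) (v : U) {x : X} (heu : e v = x) {C : Type u}
    [CommRing C] (ψ : U.presheaf.stalk v →+* C) (θ : X.presheaf.stalk x →+* C)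
    (h : Spec.map (CommRingCat.ofHom ψ) ≫ U.fromSpecStalk v ≫ e =
        Spec.map (CommRingCat.ofHom θ) ≫ X.fromSpecStalk x) (c : X.presheaf.stalk x) :
    ψ ((e.stalkMap v).hom ((X.presheaf.stalkCongr (.of_eq heu)).inv.hom c)) = θ c := by
  have h1 : (X.presheaf.stalkCongr (.of_eq heu)).inv ≫ e.stalkMap v ≫ CommRingCat.ofHom ψ =
      CommRingCat.ofHom θ := by
    apply eq_of_fromSpecStalk
    rw [← h, Spec.map_comp, Spec.map_comp, Category.assoc, Category.assoc,
      stalkCongr_fromSpecStalk (.of_eq heu), Scheme.SpecMap_stalkMap_fromSpecStalk]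
    rfl
  exact DFunLike.congr_fun (congrArg CommRingCat.Hom.hom h1) c

/-- Étale criterion. -/
theorem exists_open_etale {U Y : Scheme.{u}} (f : U ⟶ Y) [LocallyOfFiniteType f]
    [IsLocallyNoetherian Y] (v : U) (h : IsCplMap (f.stalkMap v).hom) :
    ∃ W : U.Opens, v ∈ W ∧ Etale (W.ι ≫ f) :=
  (Groth.Agent.S2734.result f v (.inl (residueFieldMap_bijective f v h).2)).mpr h

theorem exists_nbhd {X Y S : Scheme.{u}} [IsLocallyNoetherian S] (p : X ⟶ S) (q : Y ⟶ S)
    [LocallyOfFiniteType p] [LocallyOfFiniteType q] (x : X) (y : Y)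
    (hG : CAlg.IsGRing (S.presheaf.stalk (p x)))
    (φ : Y.presheaf.stalk y →+*
      AdicCompletion (maximalIdeal (X.presheaf.stalk x)) (X.presheaf.stalk x))
    (hφ : Spec.map (CommRingCat.ofHom φ) ≫ Y.fromSpecStalk y ≫ q =
      Spec.map (CommRingCat.ofHom (algebraMap (X.presheaf.stalk x)
        (AdicCompletion (maximalIdeal (X.presheaf.stalk x)) (X.presheaf.stalk x)))) ≫
          X.fromSpecStalk x ≫ p)
    (hloc : ∀ b ∈ maximalIdeal (Y.presheaf.stalk y),
      φ b ∈ (maximalIdeal (X.presheaf.stalk x)).map (algebraMap (X.presheaf.stalk x)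
        (AdicCompletion (maximalIdeal (X.presheaf.stalk x)) (X.presheaf.stalk x)))) (N : ℕ)
    (hN : 0 < N) :
    ∃ (U : Scheme.{u}) (e : U ⟶ X) (f : U ⟶ Y) (v : U) (ψ : U.presheaf.stalk v →+*
        (AdicCompletion (maximalIdeal (X.presheaf.stalk x)) (X.presheaf.stalk x)))
      (_ : IsLocalRing (AdicCompletion (maximalIdeal (X.presheaf.stalk x)) (X.presheaf.stalk x))),
      Etale e ∧ f ≫ q = e ≫ p ∧ f v = y ∧ e v = x ∧ IsCplMap ψ ∧
      Spec.map (CommRingCat.ofHom ψ) ≫ U.fromSpecStalk v ≫ e =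
        Spec.map (CommRingCat.ofHom (algebraMap (X.presheaf.stalk x)
        (AdicCompletion (maximalIdeal (X.presheaf.stalk x)) (X.presheaf.stalk x)))) ≫
          X.fromSpecStalk x ∧
      IsCplMap (e.stalkMap v).hom ∧
      ∀ (h : f v = y) (b : Y.presheaf.stalk y),
        ψ ((f.stalkMap v).hom ((Y.presheaf.stalkCongr (.of_eq h)).inv.hom b)) - φ b ∈
          maximalIdeal _ ^ N := by
  have hXN : IsLocallyNoetherian X := LocallyOfFiniteType.isLocallyNoetherian p
  have hN1 : IsNoetherianRing (X.presheaf.stalk x) := inferInstance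
  have hN2 := isNoetherianRing_cpl (X.presheaf.stalk x)
  have hGx : CAlg.IsGRing (X.presheaf.stalk x) := Apx.isGRing_stalk p x hG
  have hreg : CAlg.IsRegularHom (X.presheaf.stalk x)
      (AdicCompletion (maximalIdeal (X.presheaf.stalk x)) (X.presheaf.stalk x)) :=
    (Groth.Agent.CalgB.GRing2.isGRing_iff_of_isLocalRing _).mp hGx
  have hφl : IsLocalHom φ := by
    refine ⟨fun b hb => ?_⟩
    by_contra hb'
    have h1 := hloc b hb'
    rw [← AdicCompletion.maximalIdeal_eq_map] at h1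
    exact h1 hb
  obtain ⟨U, e, f, v, ψ, _, h1, h2, h3, h4, -, h5, h6, h7, h8⟩ := ApxNbhd.exists_nbhd p q x y
    (algebraMap (X.presheaf.stalk x)
        (AdicCompletion (maximalIdeal (X.presheaf.stalk x)) (X.presheaf.stalk x)))
    IsCplMap.algebraMap_cpl (by
      have : (algebraMap (X.presheaf.stalk x)
        (AdicCompletion (maximalIdeal (X.presheaf.stalk x)) (X.presheaf.stalk x))).toAlgebra =
          (inferInstance : Algebra _ _) := Algebra.algebra_ext _ _ (fun _ => rfl)
      rw [this]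
      exact hreg) φ hφ N hN
  exact ⟨U, e, f, v, ψ, inferInstance, h1, h2, h3, h4, h5, h6, h7, h8⟩

theorem isCplMap_of_congr_inv {U Y : Scheme.{u}} (f : U ⟶ Y) (v : U) {y : Y} (h3 : f v = y)
    {C : Type u} [CommRing C] [IsLocalRing C] (ψ : U.presheaf.stalk v →+* C)
    (h9 : IsCplMap (ψ.comp ((f.stalkMap v).hom.comp
      (Y.presheaf.stalkCongr (Inseparable.of_eq h3)).inv.hom))) :
    IsCplMap (ψ.comp (f.stalkMap v).hom) := by
  subst h3
  convert h9 using 2
  ext b
  rw [TopCat.Presheaf.stalkCongr_inv, RingHom.comp_apply, TopCat.Presheaf.stalkSpecializes_refl]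
  rfl

theorem mem_pow_of_isLocalHom {R C : Type u} [CommRing R] [CommRing C] [IsLocalRing R]
    [IsLocalRing C] (f : R →+* C) [IsLocalHom f] {n : ℕ} {x : R} (hx : x ∈ maximalIdeal R ^ n) :
    f x ∈ maximalIdeal C ^ n := by
  have h := Ideal.mem_map_of_mem f hx
  rw [Ideal.map_pow] at h
  exact Ideal.pow_right_mono (IsLocalRing.map_maximalIdeal_le f) n h

theorem sub_mem_pow_of_isLocalHom {R C : Type u} [CommRing R] [CommRing C] [IsLocalRing R]
    [IsLocalRing C] (f : R →+* C) [IsLocalHom f] {n : ℕ} {x y : R}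
    (hx : x - y ∈ maximalIdeal R ^ n) : f x - f y ∈ maximalIdeal C ^ n := by
  rw [← map_sub]
  exact mem_pow_of_isLocalHom f hx

/-- Restriction along an open immersion. -/
theorem isCplMap_comp_openImmersion {W U X : Scheme.{u}} (i : W ⟶ U) [IsOpenImmersion i]
    (e : U ⟶ X) (w : W) (h : IsCplMap (e.stalkMap (i w)).hom) :
    IsCplMap ((i ≫ e).stalkMap w).hom := by
  have h1 := h.comp_ringEquiv (asIso (i.stalkMap w)).commRingCatIsoToRingEquiv
  rw [Scheme.Hom.stalkMap_comp]
  exact h1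

end Groth.Agent.FlatMor.K596.ApxCpl

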