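import Mathlib.RingTheory.EssentialFiniteness
import Mathlib.AlgebraicGeometry.Morphisms.FiniteType
import Groth.Agent.Smoothing.K359.EtaleSolve
import Groth.Agent.S0599
import Groth.Agent.Ega4B.GRingLoc
import Groth.Agent.CalgB.GRing2
import Groth.Agent.CalgB.RegHom6
import Groth.Agent.CalgB.RegHom7

/-!
# Artin approximation for maps out of finite type algebras

* `isGRing_of_essFiniteType`: essentially finite type algebras over G-rings are G-rings.
* `isGRing_stalk`: local rings of a scheme locally of finite type over a scheme with G-ring stalk.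
* `exists_etale_approx`: an `A`-algebra map from a finite type `A`-algebra to a completion `C` can be
  approximated by a map to an étale `A`-algebra.
-/

set_option autoImplicit false

universe u

open AlgebraicGeometry CategoryTheory

namespace Groth.Agent.FlatMor.K596.Apx

theorem isGRing_of_essFiniteType {R S : Type u} [CommRing R] [CommRing S] [Algebra R S]
    [Algebra.EssFiniteType R S] (hR : CAlg.IsGRing R) : CAlg.IsGRing S := by
  have h := Groth.Agent.S0599.result R hR (Algebra.EssFiniteType.subalgebra R S)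
  have : IsLocalization (Algebra.EssFiniteType.submonoid R S) S :=
    Algebra.EssFiniteType.isLocalization R S
  exact Groth.Agent.Ega4B.GRingLoc.isGRing_of_isLocalization _ S
    (Algebra.EssFiniteType.submonoid R S) h

theorem isGRing_stalk {X S : Scheme.{u}} (p : X ⟶ S) [LocallyOfFiniteType p] (x : X)
    (hG : CAlg.IsGRing (S.presheaf.stalk (p x))) : CAlg.IsGRing (X.presheaf.stalk x) := by
  let _ := (p.stalkMap x).hom.toAlgebra
  have : Algebra.EssFiniteType (S.presheaf.stalk (p x)) (X.presheaf.stalk x) :=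
    LocallyOfFiniteType.stalkMap p x
  exact isGRing_of_essFiniteType hG

/-- Approximation of an algebra map `θ : B → C` by an algebra map to an étale algebra. -/
theorem exists_etale_approx {A C : Type u} [CommRing A] [CommRing C] [Algebra A C] [IsNoetherianRing A]
    [IsNoetherianRing C] (hreg : CAlg.IsRegularHom A C) (𝔫 : Ideal C) [HenselianRing C 𝔫]
    (p : Ideal A) [p.IsPrime]
    (hunit : ∀ s : A, s ∉ p → IsUnit (algebraMap A C s))
    (hp : p.map (algebraMap A C) ≤ 𝔫)
    (dens : ∀ (c : C) (M : ℕ), ∃ r s : A, s ∉ p ∧ algebraMap A C s * c - algebraMap A C r ∈ 𝔫 ^ M)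
    (inter : ∀ (x : A) (M : ℕ), algebraMap A C x ∈ 𝔫 ^ M → ∃ s : A, s ∉ p ∧ s * x ∈ p ^ M)
    {B : Type u} [CommRing B] [Algebra A B] [Algebra.FiniteType A B] (θ : B →ₐ[A] C)
    (M : ℕ) (hM : 0 < M) :
    ∃ (R' : Type u) (_ : CommRing R') (_ : Algebra A R'), Algebra.Etale A R' ∧
      ∃ (ψ : R' →ₐ[A] C) (β : B →ₐ[A] R'), (∀ b, θ b - ψ (β b) ∈ 𝔫 ^ M) ∧
        ∀ x : R', ∃ r s : A, s ∉ p ∧ ψ (algebraMap A R' s * x - algebraMap A R' r) ∈ 𝔫 ^ M := by
  classical
  have hB : Algebra.FinitePresentation A B := Algebra.FinitePresentation.of_finiteType.mp inferInstance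
  obtain ⟨n, f, hf, hker⟩ := hB
  obtain ⟨m, F, hF⟩ := Submodule.fg_iff_exists_fin_generating_family.mp hker
  have hFker : ∀ j, f (F j) = 0 := fun j => by
    have : F j ∈ RingHom.ker f.toRingHom := by
      rw [← hF]
      exact Submodule.subset_span ⟨j, rfl⟩
    exact this
  have hθ : MvPolynomial.aeval (fun i => θ (f (MvPolynomial.X i))) = θ.comp f := by
    ext i
    simp
  obtain ⟨R', _, _, hR', ψ, b, hb, hab, hres⟩ := K359.EtaleSolve.main hreg 𝔫 p hunit hp dens inter
    F (fun i => θ (f (MvPolynomial.X i)))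
    (fun j => by rw [hθ, AlgHom.comp_apply, hFker, map_zero]) M hM
  have hle : RingHom.ker f.toRingHom ≤ RingHom.ker (MvPolynomial.aeval (R := A) b).toRingHom := by
    change (RingHom.ker f.toRingHom : Ideal (MvPolynomial (Fin n) A)) ≤ _
    rw [← hF]
    refine Submodule.span_le.mpr ?_
    rintro _ ⟨j, rfl⟩
    exact hb j
  refine ⟨R', inferInstance, inferInstance, hR', ψ,
    AlgHom.liftOfSurjective f hf (MvPolynomial.aeval b) hle, fun c => ?_, hres⟩
  obtain ⟨P, rfl⟩ := hf c
  rw [AlgHom.liftOfSurjective_apply]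
  have h1 : (Ideal.Quotient.mkₐ A (𝔫 ^ M)).comp (θ.comp f) =
      (Ideal.Quotient.mkₐ A (𝔫 ^ M)).comp (ψ.comp (MvPolynomial.aeval b)) := by
    ext i
    simp only [AlgHom.comp_apply, MvPolynomial.aeval_X, Ideal.Quotient.mkₐ_eq_mk]
    exact Ideal.Quotient.eq.mpr (hab i)
  exact Ideal.Quotient.eq.mp (DFunLike.congr_fun h1 P)

end Groth.Agent.FlatMor.K596.Apx
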