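import Mathlib.RingTheory.AdicCompletion.LocalRing
import Mathlib.RingTheory.AdicCompletion.Noetherian
import Mathlib.RingTheory.Nakayama
import Groth.Agent.UnramA.QuotPowEtale
import Groth.Agent.Smoothing.K359.EtaleSolve

/-!
# Maps of local rings which become isomorphisms on completions

`IsCplMap θ`: for every `n` the map `R → C / m_C ^ n` induced by `θ : R → C` is surjective with kernel
`m_R ^ n`.
-/

set_option autoImplicit false

universe u v w

open IsLocalRing

namespace Groth.Agent.FlatMor.K596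

/-- `θ` induces isomorphisms `R / m_R ^ n ≃ C / m_C ^ n` for all `n`. -/
def IsCplMap {R : Type u} {C : Type v} [CommRing R] [CommRing C] [IsLocalRing R] [IsLocalRing C]
    (θ : R →+* C) : Prop :=
  ∀ n : ℕ, Function.Surjective ((Ideal.Quotient.mk (maximalIdeal C ^ n)).comp θ) ∧
    RingHom.ker ((Ideal.Quotient.mk (maximalIdeal C ^ n)).comp θ) = maximalIdeal R ^ n

namespace IsCplMap

variable {R : Type u} {C : Type v} [CommRing R] [CommRing C] [IsLocalRing R] [IsLocalRing C]

theorem mk' {θ : R →+* C} (h1 : ∀ (n : ℕ) (c : C), ∃ r : R, c - θ r ∈ maximalIdeal C ^ n)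
    (h2 : ∀ (n : ℕ) (r : R), θ r ∈ maximalIdeal C ^ n ↔ r ∈ maximalIdeal R ^ n) : IsCplMap θ := by
  refine fun n => ⟨fun c => ?_, ?_⟩
  · obtain ⟨c, rfl⟩ := Ideal.Quotient.mk_surjective c
    obtain ⟨r, hr⟩ := h1 n c
    exact ⟨r, (Ideal.Quotient.eq.mpr hr).symm⟩
  · ext r
    rw [RingHom.mem_ker, RingHom.comp_apply, Ideal.Quotient.eq_zero_iff_mem]
    exact h2 n r

theorem exists_sub {θ : R →+* C} (h : IsCplMap θ) (n : ℕ) (c : C) :
    ∃ r : R, c - θ r ∈ maximalIdeal C ^ n := by
  obtain ⟨r, hr⟩ := (h n).1 (Ideal.Quotient.mk _ c)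
  exact ⟨r, Ideal.Quotient.eq.mp hr.symm⟩

theorem mem_iff {θ : R →+* C} (h : IsCplMap θ) (n : ℕ) (r : R) :
    θ r ∈ maximalIdeal C ^ n ↔ r ∈ maximalIdeal R ^ n := by
  rw [← (h n).2, RingHom.mem_ker, RingHom.comp_apply, Ideal.Quotient.eq_zero_iff_mem]

theorem mem_iff_one {θ : R →+* C} (h : IsCplMap θ) (r : R) :
    θ r ∈ maximalIdeal C ↔ r ∈ maximalIdeal R := by
  simpa using h.mem_iff 1 r

theorem isLocalHom {θ : R →+* C} (h : IsCplMap θ) : IsLocalHom θ := by
  refine ⟨fun r hr => ?_⟩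
  by_contra hr'
  have h1 : r ∈ maximalIdeal R := hr'
  rw [← h.mem_iff_one r] at h1
  exact h1 hr

/-- The completion map. -/
theorem algebraMap_cpl [IsNoetherianRing R] :
    IsCplMap (algebraMap R (AdicCompletion (maximalIdeal R) R)) := by
  have fg : (maximalIdeal R).FG := IsNoetherian.noetherian _
  refine mk' (fun n c => ?_) (fun n r => ?_)
  · obtain ⟨r, hr⟩ := K359.EtaleSolve.exists_sub_mem (maximalIdeal R) fg c n
    refine ⟨r, ?_⟩
    rw [AdicCompletion.maximalIdeal_eq_map]
    exact hr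
  · rw [AdicCompletion.maximalIdeal_eq_map]
    refine ⟨K359.EtaleSolve.mem_pow_of_algebraMap_mem (maximalIdeal R) fg r n, fun hr => ?_⟩
    rw [← Ideal.map_pow]
    exact Ideal.mem_map_of_mem _ hr

theorem comp_ringEquiv {D : Type w} [CommRing D] [IsLocalRing D] {θ : R →+* C} (h : IsCplMap θ)
    (e : C ≃+* D) : IsCplMap (e.toRingHom.comp θ) := by
  have hm : ∀ c : C, e c ∈ maximalIdeal D ↔ c ∈ maximalIdeal C := fun c => by
    rw [mem_maximalIdeal, mem_maximalIdeal, mem_nonunits_iff, mem_nonunits_iff]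
    exact not_congr (MulEquiv.isUnit_map e)
  have hmap : (maximalIdeal C).map e.toRingHom = maximalIdeal D := by
    ext d
    rw [Ideal.mem_map_iff_of_surjective e.toRingHom e.surjective]
    constructor
    · rintro ⟨c, hc, rfl⟩
      exact (hm c).mpr hc
    · intro hd
      refine ⟨e.symm d, ?_, e.apply_symm_apply d⟩
      rw [← hm, e.apply_symm_apply]
      exact hd
  have hpow : ∀ (n : ℕ) (c : C), e c ∈ maximalIdeal D ^ n ↔ c ∈ maximalIdeal C ^ n := by
    intro n c
    rw [← hmap, ← Ideal.map_pow]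
    change e.toRingHom c ∈ _ ↔ _
    rw [Ideal.mem_map_iff_of_surjective e.toRingHom e.surjective]
    constructor
    · rintro ⟨c', hc', h'⟩
      rwa [← e.injective h']
    · exact fun hc => ⟨c, hc, rfl⟩
  refine mk' (fun n d => ?_) (fun n r => ?_)
  · obtain ⟨r, hr⟩ := h.exists_sub n (e.symm d)
    refine ⟨r, ?_⟩
    rw [← hpow, map_sub, e.apply_symm_apply] at hr
    exact hr
  · exact (hpow n _).trans (h.mem_iff n r)

/-- Two out of three. -/
theorem of_comp {R' : Type w} [CommRing R'] [IsLocalRing R'] {h : R →+* R'} {ψ : R' →+* C}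
    (hc : IsCplMap (ψ.comp h)) (hψ : IsCplMap ψ) : IsCplMap h := by
  refine mk' (fun n z => ?_) (fun n r => ?_)
  · obtain ⟨r, hr⟩ := hc.exists_sub n (ψ z)
    refine ⟨r, ?_⟩
    rw [← hψ.mem_iff, map_sub]
    exact hr
  · rw [← hψ.mem_iff, ← hc.mem_iff n r]
    rfl

/-- If `R → R'` induces surjections onto `R' / m' ^ n`, `R → C` is a completion map and factors through
the local map `R' → C` then `R' → C` is a completion map. -/
theorem of_comp_of_surj {R' : Type w} [CommRing R'] [IsLocalRing R'] {h : R →+* R'} {ψ : R' →+* C}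
    [IsLocalHom ψ] (hc : IsCplMap (ψ.comp h))
    (hs : ∀ (n : ℕ) (z : R'), ∃ r : R, z - h r ∈ maximalIdeal R' ^ n)
    (hh : ∀ r ∈ maximalIdeal R, h r ∈ maximalIdeal R') : IsCplMap ψ := by
  have hψm : ∀ (n : ℕ), ∀ z ∈ maximalIdeal R' ^ n, ψ z ∈ maximalIdeal C ^ n := by
    intro n
    have h1 : (maximalIdeal R').map ψ ≤ maximalIdeal C :=
      ((IsLocalRing.local_hom_TFAE ψ).out 0 2).mp ‹IsLocalHom ψ›
    intro z hz
    refine Ideal.pow_right_mono h1 n ?_
    rw [← Ideal.map_pow]
    exact Ideal.mem_map_of_mem _ hz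
  have hhm : ∀ (n : ℕ), ∀ r ∈ maximalIdeal R ^ n, h r ∈ maximalIdeal R' ^ n := by
    intro n r hr
    have h1 : (maximalIdeal R).map h ≤ maximalIdeal R' := Ideal.map_le_iff_le_comap.mpr hh
    refine Ideal.pow_right_mono h1 n ?_
    rw [← Ideal.map_pow]
    exact Ideal.mem_map_of_mem _ hr
  refine mk' (fun n c => ?_) (fun n z => ⟨fun hz => ?_, hψm n z⟩)
  · obtain ⟨r, hr⟩ := hc.exists_sub n c
    exact ⟨h r, hr⟩
  · obtain ⟨r, hr⟩ := hs n z
    have h1 : ψ (h r) ∈ maximalIdeal C ^ n := by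
      have h2 := Ideal.sub_mem _ hz (hψm n _ hr)
      rwa [map_sub, sub_sub_cancel] at h2
    have h2 : r ∈ maximalIdeal R ^ n := (hc.mem_iff n r).mp h1
    have h3 := Ideal.add_mem _ hr (hhm n r h2)
    rwa [sub_add_cancel] at h3

/-- The étale situation: `m_R R' = m_R'` and trivial residue field extension. -/
theorem of_comp_of_map_eq {R' : Type w} [CommRing R'] [IsLocalRing R'] {h : R →+* R'} {ψ : R' →+* C}
    [IsLocalHom ψ] (hc : IsCplMap (ψ.comp h)) (hmap : (maximalIdeal R).map h = maximalIdeal R')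
    (hres : ∀ z : R', ∃ r : R, z - h r ∈ maximalIdeal R') : IsCplMap ψ := by
  let _ := h.toAlgebra
  refine of_comp_of_surj hc (fun n z => ?_) (fun r hr => ?_)
  · obtain ⟨r, hr⟩ := Groth.Agent.UnramA.QuotPowEtale.exists_sub_mem_pow (maximalIdeal R)
      (maximalIdeal R') hmap (fun b => by
        obtain ⟨c, hc⟩ := hres b
        refine ⟨c, ?_⟩
        rw [← neg_sub]
        exact neg_mem hc) n z
    refine ⟨r, ?_⟩
    rw [← neg_sub]
    exact neg_mem hr
  · rw [← hmap]
    exact Ideal.mem_map_of_mem _ hr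

end IsCplMap

/-- A surjective endomorphism of a Noetherian ring is injective. -/
theorem injective_of_surjective_endo {A : Type u} [CommRing A] [IsNoetherianRing A] (f : A →+* A)
    (hf : Function.Surjective f) : Function.Injective f := by
  -- the chain of kernels of iterates stabilises
  let g : ℕ → (A →+* A) := fun n => f ^ n
  have hg : ∀ n, g (n + 1) = f.comp (g n) := fun n => by
    change f ^ (n + 1) = f * f ^ n
    rw [pow_succ']
  have hg' : ∀ n, g (n + 1) = (g n).comp f := fun n => by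
    change f ^ (n + 1) = f ^ n * f
    rw [pow_succ]
  have hmono : Monotone fun n => RingHom.ker (g n) := by
    refine monotone_nat_of_le_succ fun n x hx => ?_
    rw [RingHom.mem_ker] at hx ⊢
    rw [hg, RingHom.comp_apply, hx, map_zero]
  obtain ⟨n, hn⟩ := monotone_stabilizes_iff_noetherian.mpr (inferInstance : IsNoetherian A A)
    ⟨fun n => RingHom.ker (g n), hmono⟩
  have hsurj : ∀ n, Function.Surjective (g n) := by
    intro n
    induction n with
    | zero => exact fun x => ⟨x, rfl⟩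
    | succ n ih =>
      rw [hg]
      exact hf.comp ih
  rw [injective_iff_map_eq_zero]
  intro x hx
  obtain ⟨y, rfl⟩ := hsurj n x
  have h1 : y ∈ RingHom.ker (g (n + 1)) := by
    rw [RingHom.mem_ker, hg, RingHom.comp_apply, hx]
  have h2 : RingHom.ker (g n) = RingHom.ker (g (n + 1)) := hn (n + 1) (Nat.le_succ n)
  rw [← h2, RingHom.mem_ker] at h1
  exact h1

namespace IsCplMap

variable {R : Type u} {C : Type v} [CommRing R] [CommRing C] [IsLocalRing R] [IsLocalRing C]

/-- A map congruent modulo `m_C ^ 2` to a completion map is a completion map. -/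
theorem of_congr [IsNoetherianRing R] [IsNoetherianRing C] {θ g : R →+* C} (hθ : IsCplMap θ)
    (hg : ∀ r, g r - θ r ∈ maximalIdeal C ^ 2) : IsCplMap g := by
  have hle2 : maximalIdeal C ^ 2 ≤ maximalIdeal C := Ideal.pow_le_self two_ne_zero
  have hgm : ∀ r ∈ maximalIdeal R, g r ∈ maximalIdeal C := by
    intro r hr
    have h1 := Ideal.add_mem _ (hle2 (hg r)) ((hθ.mem_iff_one r).mpr hr)
    rwa [sub_add_cancel] at h1
  have hmapθ : maximalIdeal C ≤ (maximalIdeal R).map θ ⊔ maximalIdeal C ^ 2 := by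
    intro c hc
    obtain ⟨r, hr⟩ := hθ.exists_sub 2 c
    have hr' : r ∈ maximalIdeal R := by
      rw [← hθ.mem_iff_one]
      have := Ideal.sub_mem _ hc (hle2 hr)
      rwa [sub_sub_cancel] at this
    have := Ideal.add_mem ((maximalIdeal R).map θ ⊔ maximalIdeal C ^ 2)
      (Ideal.mem_sup_right hr) (Ideal.mem_sup_left (Ideal.mem_map_of_mem θ hr'))
    rwa [sub_add_cancel] at this
  have hmapg : (maximalIdeal R).map g = maximalIdeal C := by
    refine le_antisymm (Ideal.map_le_iff_le_comap.mpr hgm) ?_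
    have h1 : maximalIdeal C ≤ (maximalIdeal R).map g ⊔ maximalIdeal C • maximalIdeal C := by
      refine hmapθ.trans (sup_le ?_ ?_)
      · refine Ideal.map_le_iff_le_comap.mpr fun r hr => ?_
        have h2 : maximalIdeal C ^ 2 = maximalIdeal C • maximalIdeal C := by
          rw [sq, smul_eq_mul]
        have h3 := Ideal.sub_mem ((maximalIdeal R).map g ⊔ maximalIdeal C • maximalIdeal C)
          (Ideal.mem_sup_left (Ideal.mem_map_of_mem g hr)) (Ideal.mem_sup_right (h2 ▸ hg r))
        rwa [sub_sub_cancel] at h3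
      · rw [sq]
        exact le_sup_right
    exact Submodule.le_of_le_smul_of_le_jacobson_bot (IsNoetherian.noetherian _)
      (IsLocalRing.maximalIdeal_le_jacobson ⊥) h1
  let _ := g.toAlgebra
  have hs : ∀ (n : ℕ) (c : C), ∃ r : R, c - g r ∈ maximalIdeal C ^ n := by
    intro n c
    obtain ⟨r, hr⟩ := Groth.Agent.UnramA.QuotPowEtale.exists_sub_mem_pow (maximalIdeal R)
      (maximalIdeal C) hmapg (fun b => by
        obtain ⟨r, hr⟩ := hθ.exists_sub 2 b
        refine ⟨r, ?_⟩
        have h3 := Ideal.sub_mem _ (hle2 (hg r)) (hle2 hr)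
        have h4 : g r - θ r - (b - θ r) = algebraMap R C r - b := by
          change _ = g r - b
          ring
        rwa [h4] at h3) n c
    refine ⟨r, ?_⟩
    rw [← neg_sub]
    exact neg_mem hr
  have hgn : ∀ (n : ℕ), ∀ r ∈ maximalIdeal R ^ n, g r ∈ maximalIdeal C ^ n := by
    intro n r hr
    rw [← hmapg, ← Ideal.map_pow]
    exact Ideal.mem_map_of_mem _ hr
  refine mk' hs fun n r => ⟨fun hr => ?_, hgn n r⟩
  -- `R / m ^ n → C / m ^ n` via `g` followed by the inverse of the one via `θ`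
  let eθ : (R ⧸ maximalIdeal R ^ n) ≃+* (C ⧸ maximalIdeal C ^ n) :=
    (Ideal.quotEquivOfEq (hθ n).2.symm).trans
      (RingHom.quotientKerEquivOfSurjective (hθ n).1)
  let gn : (R ⧸ maximalIdeal R ^ n) →+* (C ⧸ maximalIdeal C ^ n) :=
    Ideal.Quotient.lift _ ((Ideal.Quotient.mk (maximalIdeal C ^ n)).comp g)
      (fun a ha => Ideal.Quotient.eq_zero_iff_mem.mpr (hgn n a ha))
  have hgns : Function.Surjective gn := by
    intro c
    obtain ⟨c, rfl⟩ := Ideal.Quotient.mk_surjective c
    obtain ⟨r, hr⟩ := hs n c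
    exact ⟨Ideal.Quotient.mk _ r, (Ideal.Quotient.eq.mpr hr).symm⟩
  have hinj := injective_of_surjective_endo (eθ.symm.toRingHom.comp gn)
    (eθ.symm.surjective.comp hgns)
  rw [← Ideal.Quotient.eq_zero_iff_mem]
  apply hinj
  rw [map_zero]
  have h5 : gn (Ideal.Quotient.mk _ r) = 0 := Ideal.Quotient.eq_zero_iff_mem.mpr hr
  rw [RingHom.comp_apply, h5, map_zero]

end IsCplMap

end Groth.Agent.FlatMor.K596
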