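import Groth.Agent.FlatMor.K596.Apx
import Groth.Agent.FlatMor.K596.CplMap
import Groth.Agent.UnramA.Locus

/-!
# Étale neighbourhoods approximating a map into the completion
-/

set_option autoImplicit false

universe u

open AlgebraicGeometry CategoryTheory IsLocalRing

namespace Groth.Agent.FlatMor.K596.ApxNbhd

/-- Ring level: `O` is the local ring of `A` at `𝔭`, `O → C` a completion map which is regular. -/
theorem exists_etale_approx_local {A O C B : Type u} [CommRing A] [IsNoetherianRing A]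
    [CommRing O] [IsLocalRing O] [Algebra A O] (𝔭 : Ideal A) [𝔭.IsPrime]
    [IsLocalization.AtPrime O 𝔭] [CommRing C] [IsLocalRing C] [IsNoetherianRing C]
    [HenselianRing C (maximalIdeal C)] [Algebra A C] [Algebra O C] [IsScalarTower A O C]
    (hθ : IsCplMap (algebraMap O C)) (hreg : CAlg.IsRegularHom O C)
    [CommRing B] [Algebra A B] [Algebra.FiniteType A B] (γ : B →ₐ[A] C) (M : ℕ) (hM : 0 < M) :
    ∃ (R' : Type u) (_ : CommRing R') (_ : Algebra A R'), Algebra.Etale A R' ∧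
      ∃ (ψ : R' →ₐ[A] C) (β : B →ₐ[A] R'), (∀ b, γ b - ψ (β b) ∈ maximalIdeal C ^ M) ∧
        ∀ z : R', ∃ r s : A, s ∉ 𝔭 ∧
          ψ (algebraMap A R' s * z - algebraMap A R' r) ∈ maximalIdeal C := by
  have hregA : CAlg.IsRegularHom A C :=
    Groth.Agent.CalgB.RegHom6.isRegularHom_comp
      (Groth.Agent.CalgB.RegHom7.isRegularHom_of_isLocalization O 𝔭.primeCompl) hreg
  have hmO : 𝔭.map (algebraMap A O) = maximalIdeal O :=
    IsLocalization.AtPrime.map_eq_maximalIdeal 𝔭 O
  have hlocal : IsLocalHom (algebraMap O C) := hθ.isLocalHom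
  have hunit : ∀ s : A, s ∉ 𝔭 → IsUnit (algebraMap A C s) := fun s hs => by
    rw [IsScalarTower.algebraMap_apply A O C]
    exact (IsLocalization.map_units O (⟨s, hs⟩ : 𝔭.primeCompl)).map (algebraMap O C)
  have hp : 𝔭.map (algebraMap A C) ≤ maximalIdeal C := by
    rw [IsScalarTower.algebraMap_eq A O C, ← Ideal.map_map, hmO]
    exact IsLocalRing.map_maximalIdeal_le _
  have dens : ∀ (c : C) (M : ℕ), ∃ r s : A, s ∉ 𝔭 ∧
      algebraMap A C s * c - algebraMap A C r ∈ maximalIdeal C ^ M := by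
    intro c M
    obtain ⟨z, hz⟩ := hθ.exists_sub M c
    obtain ⟨⟨r, s⟩, hrs⟩ := IsLocalization.surj 𝔭.primeCompl z
    refine ⟨r, s, s.2, ?_⟩
    have h1 : algebraMap A C s * c - algebraMap A C r =
        algebraMap A C s * (c - algebraMap O C z) := by
      rw [IsScalarTower.algebraMap_apply A O C r, ← hrs, map_mul,
        ← IsScalarTower.algebraMap_apply]
      ring
    rw [h1]
    exact Ideal.mul_mem_left _ _ hz
  have inter : ∀ (x : A) (M : ℕ), algebraMap A C x ∈ maximalIdeal C ^ M →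
      ∃ s : A, s ∉ 𝔭 ∧ s * x ∈ 𝔭 ^ M := by
    intro x M hx
    rw [IsScalarTower.algebraMap_apply A O C, hθ.mem_iff, ← hmO, ← Ideal.map_pow,
      IsLocalization.algebraMap_mem_map_algebraMap_iff 𝔭.primeCompl] at hx
    obtain ⟨s, hs, hsx⟩ := hx
    exact ⟨s, hs, hsx⟩
  obtain ⟨R', i1, i2, hR', ψ, β, h1, h2⟩ := Apx.exists_etale_approx hregA (maximalIdeal C) 𝔭 hunit hp
    dens inter γ M hM
  refine ⟨R', i1, i2, hR', ψ, β, h1, fun z => ?_⟩
  obtain ⟨r, s, hs, hrs⟩ := h2 z
  exact ⟨r, s, hs, Ideal.pow_le_self hM.ne' hrs⟩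

/-- A ring homomorphism congruence on a localization. -/
theorem sub_mem_of_isLocalization {A O C : Type u} [CommRing A] [CommRing O] [CommRing C]
    [Algebra A O] (M : Submonoid A) [IsLocalization M O] (I : Ideal C) (f g : O →+* C)
    (h : ∀ a : A, f (algebraMap A O a) - g (algebraMap A O a) ∈ I) (b : O) : f b - g b ∈ I := by
  have h1 : (Ideal.Quotient.mk I).comp f = (Ideal.Quotient.mk I).comp g := by
    apply IsLocalization.ringHom_ext M
    ext a
    exact Ideal.Quotient.eq.mpr (h a)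
  exact Ideal.Quotient.eq.mp (DFunLike.congr_fun h1 b)

/-- Two local homomorphisms out of the stalk are equal if the corresponding morphisms are. -/
theorem eq_of_fromSpecStalk {X : Scheme.{u}} (x : X) {C : CommRingCat.{u}}
    (f g : X.presheaf.stalk x ⟶ C)
    (h : Spec.map f ≫ X.fromSpecStalk x = Spec.map g ≫ X.fromSpecStalk x) : f = g := by
  rw [cancel_mono] at h
  exact Spec.map_injective h

theorem stalkCongr_fromSpecStalk {X : Scheme.{u}} {x y : X} (h : Inseparable x y) :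
    Spec.map (X.presheaf.stalkCongr h).inv ≫ X.fromSpecStalk y = X.fromSpecStalk x := by
  rw [TopCat.Presheaf.stalkCongr_inv]
  exact Scheme.SpecMap_stalkSpecializes_fromSpecStalk _

theorem stalkCongr_fromSpecStalk' {X : Scheme.{u}} {x y : X} (h : Inseparable x y) :
    Spec.map (X.presheaf.stalkCongr h).hom ≫ X.fromSpecStalk x = X.fromSpecStalk y := by
  rw [TopCat.Presheaf.stalkCongr_hom]
  exact Scheme.SpecMap_stalkSpecializes_fromSpecStalk _

/-- The closed point of `Spec C` maps to `x` under `Spec C → Spec O_{X,x} → X`. -/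
theorem closedPoint_map {X : Scheme.{u}} (x : X) {C : Type u} [CommRing C] [IsLocalRing C]
    (θ : X.presheaf.stalk x →+* C) [IsLocalHom θ] :
    (Spec.map (CommRingCat.ofHom θ) ≫ X.fromSpecStalk x) (closedPoint C) = x := by
  have : IsLocalHom (CommRingCat.ofHom θ).hom := ‹_›
  rw [Scheme.Hom.comp_apply]
  have h1 : Spec.map (CommRingCat.ofHom θ) (closedPoint C) = closedPoint (X.presheaf.stalk x) :=
    IsLocalRing.comap_closedPoint θ
  rw [h1, Scheme.fromSpecStalk_closedPoint]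

theorem isCplMap_stalk {X : Scheme.{u}} {x x' : X} (h : x' = x) {C : Type u} [CommRing C]
    [IsLocalRing C] {θ : X.presheaf.stalk x →+* C} (hθ : IsCplMap θ)
    (θ' : X.presheaf.stalk x' →+* C)
    (hh : Spec.map (CommRingCat.ofHom θ') ≫ X.fromSpecStalk x' =
      Spec.map (CommRingCat.ofHom θ) ≫ X.fromSpecStalk x) : IsCplMap θ' := by
  subst h
  have h1 : CommRingCat.ofHom θ' = CommRingCat.ofHom θ := eq_of_fromSpecStalk _ _ _ hh
  obtain rfl : θ' = θ := congrArg CommRingCat.Hom.hom h1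
  exact hθ

/-- the map from `R` to the stalk of `Spec R` at `u` -/
noncomputable def toStalk {R : CommRingCat.{u}} (v : Spec R) : R →+* (Spec R).presheaf.stalk v :=
  ((Scheme.ΓSpecIso R).inv ≫ (Spec R).presheaf.germ ⊤ v trivial).hom

theorem isLocalization_toStalk {R : CommRingCat.{u}} (v : Spec R) :
    letI := (toStalk v).toAlgebra
    IsLocalization.AtPrime ((Spec R).presheaf.stalk v) v.asIdeal :=
  StructureSheaf.IsLocalization.to_stalk (R := R) v

theorem fromSpecStalk_Spec {R : CommRingCat.{u}} (v : Spec R) :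
    (Spec R).fromSpecStalk v = Spec.map (CommRingCat.ofHom (toStalk v)) :=
  Spec.fromSpecStalk_eq _ _

/-- Residue fields: a local map `h : O → O'` induces a surjection onto the residue field if `O'` is
generated by fractions of elements of a ring `R'` which are fractions of elements of `O`. -/
theorem res_of_dens {O R' O' : Type*} [CommRing O] [IsLocalRing O] [CommRing R'] [CommRing O']
    [IsLocalRing O'] (h : O →+* O') [IsLocalHom h] (t : R' →+* O')
    (hloc : ∀ z : O', ∃ a b : R', IsUnit (t b) ∧ t b * z = t a)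
    (hd : ∀ a : R', ∃ r s : O, IsUnit s ∧ h s * t a - h r ∈ maximalIdeal O') (z : O') :
    ∃ r : O, z - h r ∈ maximalIdeal O' := by
  have key : ∀ a : R', ∃ r : O, residue O' (t a) = residue O' (h r) := by
    intro a
    obtain ⟨r, s, ⟨s, rfl⟩, hrs⟩ := hd a
    refine ⟨↑s⁻¹ * r, ?_⟩
    have h1 : residue O' (h s * t a - h r) = 0 := (residue_eq_zero_iff _).mpr hrs
    rw [map_sub, sub_eq_zero, map_mul] at h1
    rw [map_mul, map_mul, ← h1, ← mul_assoc, ← map_mul (residue O'), ← map_mul h, Units.inv_mul,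
      map_one, map_one, one_mul]
  obtain ⟨a, b, hb, hab⟩ := hloc z
  obtain ⟨ρa, ha'⟩ := key a
  obtain ⟨ρb, hb'⟩ := key b
  have h1 : IsUnit (h ρb) := by
    rw [← isUnit_map_iff (residue O'), ← hb', isUnit_map_iff (residue O')]
    exact hb
  obtain ⟨ρb, rfl⟩ := isUnit_of_map_unit h ρb h1
  refine ⟨↑ρb⁻¹ * ρa, ?_⟩
  rw [← residue_eq_zero_iff, map_sub, sub_eq_zero]
  have h2 : residue O' (h ρb) * residue O' z = residue O' (h ρa) := by
    rw [← hb', ← ha', ← map_mul, hab]
  rw [map_mul, map_mul, ← h2, ← mul_assoc, ← map_mul (residue O'), ← map_mul h, Units.inv_mul,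
    map_one, map_one, one_mul]

open TensorProduct in
/-- Artin approximation, geometric form. -/
theorem exists_nbhd {X Y S : Scheme.{u}} [IsLocallyNoetherian S] (p : X ⟶ S) (q : Y ⟶ S)
    [LocallyOfFiniteType p] [LocallyOfFiniteType q] (x : X) (y : Y)
    {C : Type u} [CommRing C] [IsLocalRing C] [IsNoetherianRing C] [HenselianRing C (maximalIdeal C)]
    (θ : X.presheaf.stalk x →+* C) (hθ : IsCplMap θ)
    (hreg : @CAlg.IsRegularHom (X.presheaf.stalk x) _ C _ θ.toAlgebra)
    (φ : Y.presheaf.stalk y →+* C) [IsLocalHom φ]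
    (hφ : Spec.map (CommRingCat.ofHom φ) ≫ Y.fromSpecStalk y ≫ q =
      Spec.map (CommRingCat.ofHom θ) ≫ X.fromSpecStalk x ≫ p) (N : ℕ) (hN : 0 < N) :
    ∃ (U : Scheme.{u}) (e : U ⟶ X) (f : U ⟶ Y) (u : U) (ψ : U.presheaf.stalk u →+* C),
      IsAffine U ∧ Etale e ∧ f ≫ q = e ≫ p ∧ f u = y ∧ e u = x ∧ IsLocalHom ψ ∧ IsCplMap ψ ∧
      Spec.map (CommRingCat.ofHom ψ) ≫ U.fromSpecStalk u ≫ e =
        Spec.map (CommRingCat.ofHom θ) ≫ X.fromSpecStalk x ∧
      IsCplMap (e.stalkMap u).hom ∧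
      ∀ (h : f u = y) (b : Y.presheaf.stalk y),
        ψ ((f.stalkMap u).hom ((Y.presheaf.stalkCongr (.of_eq h)).inv.hom b)) - φ b ∈
          maximalIdeal C ^ N := by
  have hθl : IsLocalHom θ := hθ.isLocalHom
  have hXN : IsLocallyNoetherian X := LocallyOfFiniteType.isLocallyNoetherian p
  have hxy : q y = p x := by
    have h1 := congrArg (fun g : Spec (CommRingCat.of C) ⟶ S => g (closedPoint C)) hφ
    simp only [← Category.assoc] at h1
    rw [Scheme.Hom.comp_apply, Scheme.Hom.comp_apply _ p, closedPoint_map, closedPoint_map] at h1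
    exact h1
  obtain ⟨_, ⟨V, hV, rfl⟩, hxV, -⟩ :=
    S.isBasis_affineOpens.exists_subset_of_mem_open (Set.mem_univ (p x)) isOpen_univ
  obtain ⟨_, ⟨U₀, hU, rfl⟩, hxU, hUV⟩ :=
    X.isBasis_affineOpens.exists_subset_of_mem_open (show x ∈ (p ⁻¹ᵁ V : Set X) from hxV) (p ⁻¹ᵁ V).2
  obtain ⟨_, ⟨W₀, hW, rfl⟩, hyW, hWV⟩ :=
    Y.isBasis_affineOpens.exists_subset_of_mem_open
      (show y ∈ (q ⁻¹ᵁ V : Set Y) from by
        change q y ∈ V
        rw [hxy]
        exact hxV) (q ⁻¹ᵁ V).2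
  have hftB : (q.appLE V W₀ hWV).hom.FiniteType := q.finiteType_appLE hV hW hWV
  have hAN : IsNoetherianRing Γ(X, U₀) := IsLocallyNoetherian.component_noetherian ⟨U₀, hU⟩
  -- the maps to `C`
  have hθA : Spec.map (CommRingCat.ofHom θ) ≫ X.fromSpecStalk x =
      Spec.map (CommRingCat.ofHom (θ.comp (X.presheaf.germ U₀ x hxU).hom)) ≫ hU.fromSpec := by
    rw [← hU.fromSpecStalk_eq_fromSpecStalk hxU, IsAffineOpen.fromSpecStalk, ← Spec.map_comp_assoc]
    rfl
  have hφB : Spec.map (CommRingCat.ofHom φ) ≫ Y.fromSpecStalk y =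
      Spec.map (CommRingCat.ofHom (φ.comp (Y.presheaf.germ W₀ y hyW).hom)) ≫ hW.fromSpec := by
    rw [← hW.fromSpecStalk_eq_fromSpecStalk hyW, IsAffineOpen.fromSpecStalk, ← Spec.map_comp_assoc]
    rfl
  have hcompat : (φ.comp (Y.presheaf.germ W₀ y hyW).hom).comp (q.appLE V W₀ hWV).hom =
      (θ.comp (X.presheaf.germ U₀ x hxU).hom).comp (p.appLE V U₀ hUV).hom := by
    have h1 : Spec.map (CommRingCat.ofHom (φ.comp (Y.presheaf.germ W₀ y hyW).hom)) ≫
        Spec.map (q.appLE V W₀ hWV) =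
        Spec.map (CommRingCat.ofHom (θ.comp (X.presheaf.germ U₀ x hxU).hom)) ≫
          Spec.map (p.appLE V U₀ hUV) := by
      rw [← cancel_mono hV.fromSpec, Category.assoc, Category.assoc,
        IsAffineOpen.SpecMap_appLE_fromSpec q hV hW hWV,
        IsAffineOpen.SpecMap_appLE_fromSpec p hV hU hUV, ← Category.assoc, ← Category.assoc,
        ← hφB, ← hθA, Category.assoc, Category.assoc]
      exact hφ
    rw [← Spec.map_comp, ← Spec.map_comp] at h1
    exact congrArg CommRingCat.Hom.hom (Spec.map_injective h1)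
  let _ : Algebra Γ(S, V) Γ(X, U₀) := (p.appLE V U₀ hUV).hom.toAlgebra
  let _ : Algebra Γ(S, V) Γ(Y, W₀) := (q.appLE V W₀ hWV).hom.toAlgebra
  let _ : Algebra Γ(X, U₀) (X.presheaf.stalk x) := (X.presheaf.germ U₀ x hxU).hom.toAlgebra
  let _ : Algebra (X.presheaf.stalk x) C := θ.toAlgebra
  let _ : Algebra Γ(X, U₀) C := (θ.comp (X.presheaf.germ U₀ x hxU).hom).toAlgebra
  let _ : Algebra Γ(S, V) C :=
    ((θ.comp (X.presheaf.germ U₀ x hxU).hom).comp (p.appLE V U₀ hUV).hom).toAlgebra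
  have : IsScalarTower Γ(X, U₀) (X.presheaf.stalk x) C := .of_algebraMap_eq' rfl
  have : IsScalarTower Γ(S, V) Γ(X, U₀) C := .of_algebraMap_eq' rfl
  have hft : Algebra.FiniteType Γ(S, V) Γ(Y, W₀) := hftB
  let γ0 : Γ(Y, W₀) →ₐ[Γ(S, V)] C :=
    { (φ.comp (Y.presheaf.germ W₀ y hyW).hom) with
      commutes' := fun r => DFunLike.congr_fun hcompat r }
  let γ : Γ(X, U₀) ⊗[Γ(S, V)] Γ(Y, W₀) →ₐ[Γ(X, U₀)] C :=
    Algebra.TensorProduct.lift (Algebra.ofId _ _) γ0 (fun _ _ => Commute.all _ _)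
  have hloc : IsLocalization.AtPrime (X.presheaf.stalk x) (hU.primeIdealOf ⟨x, hxU⟩).asIdeal :=
    hU.isLocalization_stalk ⟨x, hxU⟩
  obtain ⟨R', _, _, hR', ψ0, β, hβ, hdens⟩ :=
    exists_etale_approx_local (O := X.presheaf.stalk x) (hU.primeIdealOf ⟨x, hxU⟩).asIdeal
      hθ hreg γ N hN
  let β0 : Γ(Y, W₀) →+* R' := (β : _ →+* R').comp
    (Algebra.TensorProduct.includeRight : Γ(Y, W₀) →ₐ[Γ(S, V)] Γ(X, U₀) ⊗[Γ(S, V)] Γ(Y, W₀)).toRingHom
  have hβ0 : β0.comp (q.appLE V W₀ hWV).hom =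
      (algebraMap Γ(X, U₀) R').comp (p.appLE V U₀ hUV).hom := by
    ext r
    change β ((1 : Γ(X, U₀)) ⊗ₜ[Γ(S, V)] (algebraMap Γ(S, V) Γ(Y, W₀) r)) =
      algebraMap Γ(X, U₀) R' (algebraMap Γ(S, V) Γ(X, U₀) r)
    rw [← Algebra.TensorProduct.algebraMap_apply', ← β.commutes]
    rfl
  have hβγ : ∀ b : Γ(Y, W₀), φ (Y.presheaf.germ W₀ y hyW b) - ψ0 (β0 b) ∈ maximalIdeal C ^ N := by
    intro b
    have h1 := hβ (1 ⊗ₜ b)
    have h2 : γ (1 ⊗ₜ b) = φ (Y.presheaf.germ W₀ y hyW b) := by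
      change Algebra.TensorProduct.lift _ _ _ _ = _
      rw [Algebra.TensorProduct.lift_tmul, map_one, one_mul]
      rfl
    rw [h2] at h1
    exact h1
  let c : Spec (CommRingCat.of C) ⟶ Spec (CommRingCat.of R') := Spec.map (CommRingCat.ofHom ψ0.toRingHom)
  let e : Spec (CommRingCat.of R') ⟶ X :=
    Spec.map (CommRingCat.ofHom (algebraMap Γ(X, U₀) R')) ≫ hU.fromSpec
  let f : Spec (CommRingCat.of R') ⟶ Y := Spec.map (CommRingCat.ofHom β0) ≫ hW.fromSpec
  let u : Spec (CommRingCat.of R') := c (closedPoint C)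
  let ψ : (Spec (CommRingCat.of R')).presheaf.stalk u →+* C := (Scheme.stalkClosedPointTo c).hom
  have hψl : IsLocalHom ψ := Scheme.isLocalHom_stalkClosedPointTo' c
  have hψc : Spec.map (CommRingCat.ofHom ψ) ≫ (Spec (CommRingCat.of R')).fromSpecStalk u = c :=
    Scheme.Spec_stalkClosedPointTo_fromSpecStalk c
  have hψt : ψ.comp (toStalk u) = ψ0.toRingHom := by
    rw [fromSpecStalk_Spec, ← Spec.map_comp] at hψc
    exact congrArg CommRingCat.Hom.hom (Spec.map_injective hψc)
  have hce : c ≫ e = Spec.map (CommRingCat.ofHom θ) ≫ X.fromSpecStalk x := by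
    rw [hθA]
    change Spec.map _ ≫ Spec.map _ ≫ hU.fromSpec = _
    rw [← Spec.map_comp_assoc, ← CommRingCat.ofHom_comp]
    congr 3
    exact ψ0.comp_algebraMap
  have heu : e u = x := by
    have h1 := closedPoint_map x θ
    rw [← hce] at h1
    exact h1
  have hcf : c ≫ f = Spec.map (CommRingCat.ofHom (ψ0.toRingHom.comp β0)) ≫ hW.fromSpec := by
    change Spec.map _ ≫ Spec.map _ ≫ hW.fromSpec = _
    rw [← Spec.map_comp_assoc, ← CommRingCat.ofHom_comp]
  have hfu : f u = y := by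
    have h1 := closedPoint_map y φ
    rw [hφB] at h1
    change (c ≫ f) (closedPoint C) = y
    rw [hcf, ← h1, Scheme.Hom.comp_apply, Scheme.Hom.comp_apply]
    congr 1
    refine PrimeSpectrum.ext ?_
    ext b
    change ψ0 (β0 b) ∈ maximalIdeal C ↔ φ (Y.presheaf.germ W₀ y hyW b) ∈ maximalIdeal C
    have h2 := Ideal.pow_le_self hN.ne' (hβγ b)
    constructor
    · intro h3
      have := Ideal.add_mem _ h2 h3
      rwa [sub_add_cancel] at this
    · intro h3
      have := Ideal.sub_mem _ h3 h2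
      rwa [sub_sub_cancel] at this
  have hEt0 : Etale (Spec.map (CommRingCat.ofHom (algebraMap Γ(X, U₀) R'))) :=
    HasRingHomProperty.Spec_iff.mpr (RingHom.etale_algebraMap.mpr hR')
  have hEt : Etale e := inferInstance
  have hψe : IsCplMap (ψ.comp (e.stalkMap u).hom) := by
    refine isCplMap_stalk heu hθ _ ?_
    rw [← hce, ← hψc, CommRingCat.ofHom_comp, Spec.map_comp, Category.assoc, Category.assoc]
    congr 1
    exact Scheme.SpecMap_stalkMap_fromSpecStalk e
  have hmap : (maximalIdeal (X.presheaf.stalk (e u))).map (e.stalkMap u).hom =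
      maximalIdeal ((Spec (CommRingCat.of R')).presheaf.stalk u) := by
    have h1 : (e.stalkMap u).hom.FormallyUnramified := FormallyUnramified.stalkMap e u
    have h2 : (e.stalkMap u).hom.EssFiniteType := LocallyOfFiniteType.stalkMap e u
    algebraize [(e.stalkMap u).hom]
    have h3 : IsLocalHom (algebraMap (X.presheaf.stalk (e u))
        ((Spec (CommRingCat.of R')).presheaf.stalk u)) :=
      inferInstanceAs (IsLocalHom (e.stalkMap u).hom)
    exact Algebra.FormallyUnramified.map_maximalIdeal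
  have hgerm : ∀ (r : Γ(X, U₀)) (hu' : e u ∈ U₀),
      (e.stalkMap u).hom (X.presheaf.germ U₀ (e u) hu' r) = toStalk u (algebraMap Γ(X, U₀) R' r) := by
    intro r hu'
    have h1 : X.presheaf.germ U₀ (e u) hu' ≫ e.stalkMap u =
        CommRingCat.ofHom (algebraMap Γ(X, U₀) R') ≫ CommRingCat.ofHom (toStalk u) := by
      apply Spec.map_injective
      rw [← cancel_mono hU.fromSpec, Spec.map_comp, Spec.map_comp, Category.assoc, Category.assoc,
        ← fromSpecStalk_Spec]
      change _ = _ ≫ e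
      rw [← Scheme.SpecMap_stalkMap_fromSpecStalk e, ← hU.fromSpecStalk_eq_fromSpecStalk hu']
      rfl
    exact DFunLike.congr_fun (congrArg CommRingCat.Hom.hom h1) r
  have hres : ∀ z : (Spec (CommRingCat.of R')).presheaf.stalk u,
      ∃ r : X.presheaf.stalk (e u), z - (e.stalkMap u).hom r ∈ maximalIdeal _ := by
    refine res_of_dens (e.stalkMap u).hom (toStalk u) (fun z => ?_) (fun a => ?_)
    · let _ := (toStalk u).toAlgebra
      have := isLocalization_toStalk u
      obtain ⟨⟨a, b⟩, hab⟩ := IsLocalization.surj u.asIdeal.primeCompl z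
      refine ⟨a, b, IsLocalization.map_units _ b, ?_⟩
      rw [mul_comm]
      exact hab
    · obtain ⟨r, s, hs, hrs⟩ := hdens a
      have hu' : e u ∈ U₀ := by rw [heu]; exact hxU
      refine ⟨X.presheaf.germ U₀ (e u) hu' r, X.presheaf.germ U₀ (e u) hu' s, ?_, ?_⟩
      · refine isUnit_of_map_unit (e.stalkMap u).hom _ ?_
        rw [hgerm]
        refine isUnit_of_map_unit ψ _ ?_
        have h1 : ψ (toStalk u (algebraMap Γ(X, U₀) R' s)) = θ (X.presheaf.germ U₀ x hxU s) :=
          (DFunLike.congr_fun hψt _).trans (ψ0.commutes s)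
        rw [h1]
        refine IsUnit.map θ ?_
        exact IsLocalization.map_units (X.presheaf.stalk x)
          (⟨s, hs⟩ : (hU.primeIdealOf ⟨x, hxU⟩).asIdeal.primeCompl)
      · rw [hgerm, hgerm, ← map_mul, ← map_sub]
        have h1 : ψ (toStalk u (algebraMap Γ(X, U₀) R' s * a - algebraMap Γ(X, U₀) R' r)) ∈
            maximalIdeal C := by
          have h2 := DFunLike.congr_fun hψt (algebraMap Γ(X, U₀) R' s * a - algebraMap Γ(X, U₀) R' r)
          rw [RingHom.comp_apply] at h2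
          rw [h2]
          exact hrs
        rw [mem_maximalIdeal, mem_nonunits_iff]
        intro h2
        exact h1 (h2.map ψ)
  have hψcpl : IsCplMap ψ := IsCplMap.of_comp_of_map_eq hψe hmap hres
  refine ⟨Spec (CommRingCat.of R'), e, f, u, ψ, inferInstance, hEt, ?_, hfu, heu, hψl, hψcpl, ?_,
    IsCplMap.of_comp hψe hψcpl, ?_⟩
  · change (Spec.map _ ≫ hW.fromSpec) ≫ q = (Spec.map _ ≫ hU.fromSpec) ≫ p
    rw [Category.assoc, Category.assoc, ← IsAffineOpen.SpecMap_appLE_fromSpec q hV hW hWV,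
      ← IsAffineOpen.SpecMap_appLE_fromSpec p hV hU hUV, ← Spec.map_comp_assoc,
      ← Spec.map_comp_assoc]
    congr 2
    ext1
    exact hβ0
  · rw [← hce, ← hψc, Category.assoc]
  · intro h b
    let _ : Algebra Γ(Y, W₀) (Y.presheaf.stalk y) := (Y.presheaf.germ W₀ y hyW).hom.toAlgebra
    have hlocY : IsLocalization.AtPrime (Y.presheaf.stalk y) (hW.primeIdealOf ⟨y, hyW⟩).asIdeal :=
      hW.isLocalization_stalk ⟨y, hyW⟩
    have key : ((ψ.comp (f.stalkMap u).hom).comp (Y.presheaf.stalkCongr (.of_eq h)).inv.hom).comp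
        (Y.presheaf.germ W₀ y hyW).hom = ψ0.toRingHom.comp β0 := by
      have h1 : Y.presheaf.germ W₀ y hyW ≫ (Y.presheaf.stalkCongr (.of_eq h)).inv ≫
          f.stalkMap u ≫ CommRingCat.ofHom ψ = CommRingCat.ofHom (ψ0.toRingHom.comp β0) := by
        apply Spec.map_injective
        rw [← cancel_mono hW.fromSpec, ← hcf, ← hψc, Category.assoc,
          ← Scheme.SpecMap_stalkMap_fromSpecStalk f, ← stalkCongr_fromSpecStalk (.of_eq h),
          ← hW.fromSpecStalk_eq_fromSpecStalk hyW]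
        simp only [Spec.map_comp, Category.assoc, IsAffineOpen.fromSpecStalk]
        rfl
      exact congrArg CommRingCat.Hom.hom h1
    have h2 := sub_mem_of_isLocalization (A := Γ(Y, W₀)) (O := Y.presheaf.stalk y)
      (hW.primeIdealOf ⟨y, hyW⟩).asIdeal.primeCompl (maximalIdeal C ^ N)
      ((ψ.comp (f.stalkMap u).hom).comp (Y.presheaf.stalkCongr (.of_eq h)).inv.hom) φ
      (fun a => by
        have h3 := DFunLike.congr_fun key a
        change ((ψ.comp (f.stalkMap u).hom).comp (Y.presheaf.stalkCongr (.of_eq h)).inv.hom)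
          (Y.presheaf.germ W₀ y hyW a) - φ (Y.presheaf.germ W₀ y hyW a) ∈ _
        rw [RingHom.comp_apply] at h3
        rw [h3, ← neg_sub]
        exact neg_mem (hβγ a)) b
    exact h2

end Groth.Agent.FlatMor.K596.ApxNbhd
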