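import Groth.Agent.FlatMor.K596.CorrCpl
import Groth.Agent.Lim8.K115.RelFG

/-!
# Approximating an étale correspondence over a complete local base by one over an étale neighbourhood
-/

set_option autoImplicit false

universe u

open AlgebraicGeometry CategoryTheory Limits IsLocalRing

namespace Groth.Agent.FlatMor.K596.CorrApx

open ApxNbhd StageCorr

theorem exists_fac_closedPoint {Λ k : Type u} [CommRing Λ] [IsLocalRing Λ] [Field k]
    (t : Spec (CommRingCat.of k) ⟶ Spec (CommRingCat.of Λ))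
    (ht : t (closedPoint k) = closedPoint Λ) :
    ∃ r : Spec (CommRingCat.of k) ⟶ Spec (CommRingCat.of (ResidueField Λ)),
      r ≫ Spec.map (CommRingCat.ofHom (residue Λ)) = t := by
  obtain ⟨ρ, rfl⟩ := Spec.map_surjective t
  have hρ : IsLocalHom ρ.hom := by
    refine ⟨fun a ha => ?_⟩
    by_contra hc
    have h1 : a ∈ (closedPoint Λ).asIdeal := hc
    rw [← ht] at h1
    exact h1 ha
  refine ⟨Spec.map (CommRingCat.ofHom (ResidueField.lift ρ.hom)), ?_⟩
  rw [← Spec.map_comp, ← CommRingCat.ofHom_comp, ResidueField.lift_comp_residue]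
  rfl

set_option maxHeartbeats 1000000 in
theorem exists_approx {X Y S T : Scheme.{u}} [IsLocallyNoetherian S] (p : X ⟶ S)
    [LocallyOfFiniteType p] (q : Y ⟶ T) [LocallyOfFiniteType q]
    [LocallyOfFiniteType (specULiftZIsTerminal.from T)] (s : S) {Λ : Type u} [CommRing Λ]
    [IsLocalRing Λ] [IsNoetherianRing Λ] [HenselianRing Λ (maximalIdeal Λ)]
    (θS : S.presheaf.stalk s →+* Λ) (hθS : IsCplMap θS)
    (hreg : @CAlg.IsRegularHom (S.presheaf.stalk s) _ Λ _ θS.toAlgebra)
    (σ' : Spec (CommRingCat.of Λ) ⟶ T) {U : Scheme.{u}} (g : U ⟶ Spec (CommRingCat.of Λ))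
    [LocallyOfFinitePresentation g] [QuasiCompact g] [QuasiSeparated g]
    (f : U ⟶ X) (e : U ⟶ Y) {k : Type u} [Field k] (κ : Spec (CommRingCat.of k) ⟶ U)
    (hf : EtOver p (Spec.map (CommRingCat.ofHom θS) ≫ S.fromSpecStalk s) f g)
    (he : EtOver q σ' e g) (hκg : (κ ≫ g) (closedPoint k) = closedPoint Λ) (hκf : Mono (κ ≫ f))
    (hmono : ∀ {Z : Scheme.{u}} (a b : Z ⟶ Spec (CommRingCat.of k)),
        a ≫ κ ≫ e = b ≫ κ ≫ e → a ≫ κ ≫ g = b ≫ κ ≫ g → a = b) :
    ∃ (V : Scheme.{u}) (v : V) (e' : V ⟶ S) (τ : V ⟶ T) (W : Scheme.{u}) (w : W) (a : W ⟶ X)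
      (b : W ⟶ pullback q τ),
      Etale e' ∧ e' v = s ∧ Function.Bijective (e'.residueFieldMap v) ∧
      τ v = σ' (closedPoint Λ) ∧ Etale a ∧ a w = (κ ≫ f) (closedPoint k) ∧
      Function.Bijective (a.residueFieldMap w) ∧
      a ≫ p = b ≫ pullback.snd q τ ≫ e' ∧
      Etale b ∧ (pullback.fst q τ) (b w) = (κ ≫ e) (closedPoint k) ∧
      (pullback.snd q τ) (b w) = v ∧ Function.Bijective (b.residueFieldMap w) := by
  have hθSl : IsLocalHom θS := hθS.isLocalHom
  have hNZ : IsLocallyNoetherian (Spec (CommRingCat.of (ULift.{u} ℤ))) := by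
    have : IsNoetherianRing (ULift.{u} ℤ) := isNoetherianRing_of_ringEquiv ℤ ULift.ringEquiv.symm
    infer_instance
  have hNT : IsLocallyNoetherian T :=
    LocallyOfFiniteType.isLocallyNoetherian (specULiftZIsTerminal.from T)
  have hTfp : LocallyOfFinitePresentation (specULiftZIsTerminal.from T) :=
    LocallyOfFinitePresentation.iff_locallyOfFiniteType.mpr inferInstance
  have hpfp : LocallyOfFinitePresentation p :=
    LocallyOfFinitePresentation.iff_locallyOfFiniteType.mpr inferInstance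
  have hqfp : LocallyOfFinitePresentation q :=
    LocallyOfFinitePresentation.iff_locallyOfFiniteType.mpr inferInstance
  obtain ⟨_, ⟨S₀, hS₀, rfl⟩, hsS, -⟩ :=
    S.isBasis_affineOpens.exists_subset_of_mem_open (Set.mem_univ s) isOpen_univ
  have hLN : IsNoetherianRing Γ(S, S₀) := IsLocallyNoetherian.component_noetherian ⟨S₀, hS₀⟩
  let _ : Algebra Γ(S, S₀) (S.presheaf.stalk s) := (S.presheaf.germ S₀ s hsS).hom.toAlgebra
  let _ : Algebra (S.presheaf.stalk s) Λ := θS.toAlgebra
  let _ : Algebra Γ(S, S₀) Λ := (θS.comp (S.presheaf.germ S₀ s hsS).hom).toAlgebra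
  have : IsScalarTower Γ(S, S₀) (S.presheaf.stalk s) Λ := .of_algebraMap_eq' rfl
  have hloc : IsLocalization.AtPrime (S.presheaf.stalk s) (hS₀.primeIdealOf ⟨s, hsS⟩).asIdeal :=
    hS₀.isLocalization_stalk ⟨s, hsS⟩
  have hθA : Spec.map (CommRingCat.ofHom θS) ≫ S.fromSpecStalk s =
      Spec.map (CommRingCat.ofHom (algebraMap Γ(S, S₀) Λ)) ≫ hS₀.fromSpec := by
    rw [← hS₀.fromSpecStalk_eq_fromSpecStalk hsS, IsAffineOpen.fromSpecStalk,
      ← Spec.map_comp_assoc]
    rfl
  let D := K115.RelFG.specDiagram Γ(S, S₀) Λ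
  let c := K115.RelFG.specCone Γ(S, S₀) Λ
  have hc : IsLimit c := K115.RelFG.isLimitSpecCone Γ(S, S₀) Λ
  have hDaff : ∀ i, IsAffine (D.obj i) := fun i => inferInstanceAs
    (IsAffine ((K115.RelFG.specDiagram Γ(S, S₀) Λ).obj i))
  -- `σ'` factors through a stage
  let tZ : D ⟶ (Functor.const _).obj (Spec (CommRingCat.of (ULift.{u} ℤ))) :=
    { app := fun i => specULiftZIsTerminal.from (D.obj i)
      naturality := fun i j h => specULiftZIsTerminal.hom_ext _ _ }
  obtain ⟨i, ti, hti, -⟩ := Scheme.exists_π_app_comp_eq_of_locallyOfFinitePresentation D tZ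
    (specULiftZIsTerminal.from T) c hc (show c.pt ⟶ T from σ') (by
      ext i
      exact specULiftZIsTerminal.hom_ext _ _)
  let si : D.obj i ⟶ S :=
    Spec.map (CommRingCat.ofHom (algebraMap Γ(S, S₀) i.unop.1)) ≫ hS₀.fromSpec
  have hsi : c.π.app i ≫ si = Spec.map (CommRingCat.ofHom θS) ≫ S.fromSpecStalk s := by
    rw [hθA]
    change Spec.map _ ≫ Spec.map _ ≫ _ = _
    rw [← Spec.map_comp_assoc]
    rfl
  let g' : U ⟶ c.pt := g
  have hg'1 : LocallyOfFinitePresentation g' := inferInstanceAs (LocallyOfFinitePresentation g)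
  have hg'2 : QuasiCompact g' := inferInstanceAs (QuasiCompact g)
  have hg'3 : QuasiSeparated g' := inferInstanceAs (QuasiSeparated g)
  obtain ⟨j, φ, Uj, gj, π, fj, ej, sq, hπf, hπe, hEf, hEe⟩ := exists_stage D c hc
    g' p q si ti f e (by rw [hsi]; exact hf) (by rw [hti]; exact he)
  have hftA : Algebra.FiniteType Γ(S, S₀) j.unop.1 :=
    (Subalgebra.fg_iff_finiteType _).mp j.unop.2
  obtain ⟨R', _, _, hR', ψ, β, hβ, -⟩ :=
    exists_etale_approx_local (O := S.presheaf.stalk s) (hS₀.primeIdealOf ⟨s, hsS⟩).asIdeal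
      hθS hreg j.unop.1.val 1 one_pos
  let d : Spec (CommRingCat.of R') ⟶ D.obj j := Spec.map (CommRingCat.ofHom β.toRingHom)
  let e' : Spec (CommRingCat.of R') ⟶ S := d ≫ D.map φ ≫ si
  let τ : Spec (CommRingCat.of R') ⟶ T := d ≫ D.map φ ≫ ti
  have he'eq : e' = Spec.map (CommRingCat.ofHom (algebraMap Γ(S, S₀) R')) ≫ hS₀.fromSpec := by
    change Spec.map _ ≫ Spec.map _ ≫ Spec.map _ ≫ _ = _
    rw [← Spec.map_comp_assoc, ← Spec.map_comp_assoc]
    congr 2
    ext1
    exact β.comp_algebraMap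
  have hEt0 : Etale (Spec.map (CommRingCat.ofHom (algebraMap Γ(S, S₀) R'))) :=
    HasRingHomProperty.Spec_iff.mpr (RingHom.etale_algebraMap.mpr hR')
  have he'et : Etale e' := by
    rw [he'eq]
    infer_instance
  let m : Spec (CommRingCat.of (ResidueField Λ)) ⟶ Spec (CommRingCat.of R') :=
    Spec.map (CommRingCat.ofHom (residue Λ)) ≫ Spec.map (CommRingCat.ofHom ψ.toRingHom)
  have hme' : m ≫ e' = Spec.map (CommRingCat.ofHom (residue Λ)) ≫
      Spec.map (CommRingCat.ofHom θS) ≫ S.fromSpecStalk s := by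
    rw [he'eq, Category.assoc, hθA, ← Spec.map_comp_assoc (CommRingCat.ofHom _)
      (CommRingCat.ofHom ψ.toRingHom), ← CommRingCat.ofHom_comp]
    congr 4
    exact ψ.comp_algebraMap
  let resΛ : Spec (CommRingCat.of (ResidueField Λ)) ⟶ c.pt :=
    Spec.map (CommRingCat.ofHom (residue Λ))
  have hmd : m ≫ d = resΛ ≫ c.π.app j := by
    change (Spec.map _ ≫ Spec.map _) ≫ Spec.map _ = Spec.map _ ≫ Spec.map _
    rw [← Spec.map_comp, ← Spec.map_comp, ← Spec.map_comp]
    congr 1
    ext b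
    have h1 := hβ b
    rw [pow_one, ← residue_eq_zero_iff, map_sub, sub_eq_zero] at h1
    exact h1.symm
  have hmmono' : Mono (m ≫ e') := by
    rw [hme']
    exact ResMono.mono_residue s θS hθS
  have hmmono : Mono m := mono_of_mono m e'
  obtain ⟨r, hr⟩ := exists_fac_closedPoint (κ ≫ g) hκg
  have hr' : r ≫ resΛ = κ ≫ g' := hr
  let κW : Spec (CommRingCat.of k) ⟶ pullback gj d := pullback.lift (κ ≫ π) (r ≫ m) (by
    rw [Category.assoc, sq.w, ← Category.assoc, ← hr', Category.assoc, Category.assoc, hmd])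
  have hκW1 : κW ≫ pullback.fst gj d = κ ≫ π := pullback.lift_fst _ _ _
  have hκW2 : κW ≫ pullback.snd gj d = r ≫ m := pullback.lift_snd _ _ _
  have hEfW := hEf.bc (IsPullback.of_hasPullback gj d)
  obtain ⟨hwb, hEb⟩ := hEe.bc (IsPullback.of_hasPullback gj d)
  have hEa : Etale (pullback.fst gj d ≫ fj) := by
    have : Etale (d ≫ D.map φ ≫ si) := he'et
    exact hEfW.etale
  have hκa : κW ≫ pullback.fst gj d ≫ fj = κ ≫ f := by
    rw [← Category.assoc, hκW1, Category.assoc, hπf]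
  have hzΛ : Spec.map (CommRingCat.ofHom (residue Λ)) (closedPoint (ResidueField Λ)) =
      closedPoint Λ := IsLocalRing.comap_closedPoint (residue Λ)
  let b : pullback gj d ⟶ pullback q τ :=
    pullback.lift (pullback.fst gj d ≫ ej) (pullback.snd gj d) hwb
  have hb1 : b ≫ pullback.fst q τ = pullback.fst gj d ≫ ej := pullback.lift_fst _ _ _
  have hb2 : b ≫ pullback.snd q τ = pullback.snd gj d := pullback.lift_snd _ _ _
  refine ⟨Spec (CommRingCat.of R'), m (closedPoint (ResidueField Λ)), e', τ, pullback gj d,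
    κW (closedPoint k), pullback.fst gj d ≫ fj, b, he'et, ?_, ?_, ?_, hEa, ?_, ?_,
    ?_, hEb, ?_, ?_, ?_⟩
  · change (m ≫ e') _ = s
    rw [hme', Scheme.Hom.comp_apply, hzΛ]
    exact closedPoint_map s θS
  · exact ResMono.bijective_residueFieldMap m e' hmmono' rfl
  · change (m ≫ τ) _ = _
    have h1 : m ≫ τ = resΛ ≫ (show c.pt ⟶ T from σ') := by
      change m ≫ d ≫ D.map φ ≫ ti = _
      rw [← Category.assoc, hmd, Category.assoc, ← Category.assoc (c.π.app j), c.w, hti]
    rw [h1, Scheme.Hom.comp_apply]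
    exact congrArg σ' hzΛ
  · rw [← hκa]
    rfl
  · exact ResMono.bijective_residueFieldMap κW _ (by rw [hκa]; exact hκf) rfl
  · rw [← Category.assoc b, hb2]
    exact hEfW.w
  · have h1 : κW ≫ b ≫ pullback.fst q τ = κ ≫ e := by
      rw [hb1, ← Category.assoc, hκW1, Category.assoc, hπe]
    rw [← h1]
    rfl
  · have h1 : κW ≫ b ≫ pullback.snd q τ = r ≫ m := by rw [hb2, hκW2]
    have h2 : (pullback.snd q τ) (b (κW (closedPoint k))) = (r ≫ m) (closedPoint k) := by
      rw [← h1]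
      rfl
    refine h2.trans ?_
    rw [Scheme.Hom.comp_apply]
    congr 1
    exact Subsingleton.elim (α := PrimeSpectrum (ResidueField Λ)) _ _
  · refine ResMono.bijective_residueFieldMap κW _ ⟨fun {Z} α α' h => ?_⟩ rfl
    have h1 : α ≫ κ ≫ e = α' ≫ κ ≫ e := by
      have h2 := congrArg (· ≫ pullback.fst q τ) h
      simp only [Category.assoc] at h2
      rw [hb1, ← Category.assoc κW, hκW1, Category.assoc, hπe] at h2
      exact h2
    have h3 : α ≫ r = α' ≫ r := by
      have h2 := congrArg (· ≫ pullback.snd q τ) h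
      simp only [Category.assoc] at h2
      rw [hb2, hκW2] at h2
      rw [← cancel_mono m]
      simpa only [Category.assoc] using h2
    refine hmono α α' h1 ?_
    rw [← hr, ← Category.assoc, h3, Category.assoc]

end Groth.Agent.FlatMor.K596.CorrApx
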