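import Groth.Agent.FlatMor.K596.ApxNbhd
import Groth.Agent.AlgSp.K619.EtField
import Groth.Agent.Etrest.EtLocal

/-!
# Trivial residue field extensions and monomorphisms from spectra of fields
-/

set_option autoImplicit false

universe u

open AlgebraicGeometry CategoryTheory IsLocalRing

namespace Groth.Agent.FlatMor.K596.ResMono

open ApxNbhd

theorem isIso_of_mono_spec {K L : CommRingCat.{u}} (hK : IsField K) (hL : IsField L)
    (q : Spec L ⟶ Spec K) [Mono q] : IsIso q := by
  let _ := hK.toField
  let _ := hL.toField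
  have hn : Nonempty ↥(Spec L) := inferInstanceAs (Nonempty (PrimeSpectrum L))
  exact K619.EtField.isIso_of_mono_field (K := K) (T := Spec L) q

theorem isIso_of_mono {K L : CommRingCat.{u}} (hK : IsField K) (hL : IsField L)
    (φ : K ⟶ L) [Mono (Spec.map φ)] : IsIso φ := by
  have h0 : IsIso (Scheme.Spec.map φ.op) := isIso_of_mono_spec hK hL (Spec.map φ)
  have h := isIso_of_reflects_iso φ.op Scheme.Spec
  exact (isIso_op_iff φ).1 h

/-- If `t : Spec K ⟶ W ⟶ Z` is a monomorphism, then `W ⟶ Z` has trivial residue field extension at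
the image of `t`. -/
theorem bijective_residueFieldMap {K : Type u} [Field K] {W Z : Scheme.{u}}
    (t : Spec (CommRingCat.of K) ⟶ W) (b : W ⟶ Z) (h : Mono (t ≫ b)) {w : W}
    (hw : t (closedPoint K) = w) : Function.Bijective (b.residueFieldMap w) := by
  obtain ⟨α, hα⟩ := Groth.Agent.Etrest.EtLocal.exists_fac_fromSpecResidueField t w (by
    rw [← hw]
    congr 1
    exact Subsingleton.elim (α := PrimeSpectrum K) _ _)
  rw [← hα, Category.assoc, ← Scheme.Hom.SpecMap_residueFieldMap_fromSpecResidueField,
    ← Category.assoc] at h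
  have h3 : Mono (α ≫ Spec.map (b.residueFieldMap w)) := mono_of_mono _ (Z.fromSpecResidueField (b w))
  have h4 : Mono α := mono_of_mono _ (Spec.map (b.residueFieldMap w))
  have h5 : IsIso α := isIso_of_mono_spec (Field.toIsField (W.residueField w)) (Field.toIsField K) α
  have h6 : Mono (Spec.map (b.residueFieldMap w)) := by
    have : Spec.map (b.residueFieldMap w) = inv α ≫ (α ≫ Spec.map (b.residueFieldMap w)) := by simp
    rw [this]
    exact mono_comp _ _
  have h7 : IsIso (b.residueFieldMap w) :=
    isIso_of_mono (Field.toIsField (Z.residueField (b w))) (Field.toIsField (W.residueField w)) _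
  exact ConcreteCategory.bijective_of_isIso _

/-- `Spec (C / 𝔪) ⟶ Spec C ⟶ Spec O_{X,x} ⟶ X` is a monomorphism if `O_{X,x} → C / 𝔪` is onto. -/
theorem mono_residue {X : Scheme.{u}} (x : X) {C : Type u} [CommRing C] [IsLocalRing C]
    (θ : X.presheaf.stalk x →+* C) (hθ : IsCplMap θ) :
    Mono (Spec.map (CommRingCat.ofHom (residue C)) ≫ Spec.map (CommRingCat.ofHom θ) ≫
      X.fromSpecStalk x) := by
  have hs : Function.Surjective ((residue C).comp θ) := by
    intro z
    obtain ⟨z, rfl⟩ := residue_surjective z
    obtain ⟨r, hr⟩ := hθ.exists_sub 1 z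
    rw [pow_one, ← residue_eq_zero_iff, map_sub, sub_eq_zero] at hr
    exact ⟨r, hr.symm⟩
  rw [← Spec.map_comp_assoc, ← CommRingCat.ofHom_comp]
  have h1 : IsClosedImmersion (Spec.map (CommRingCat.ofHom ((residue C).comp θ))) :=
    IsClosedImmersion.spec_of_surjective _ hs
  infer_instance

end Groth.Agent.FlatMor.K596.ResMono
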