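import Groth.Agent.Unram17.K134.LimIff
import Groth.Agent.Ega43.LimDesc
import Groth.Agent.S0591

/-!
# Étale correspondences descend from a limit to a stage
-/

set_option autoImplicit false

universe u

open CategoryTheory CategoryTheory.Limits AlgebraicGeometry

namespace Groth.Agent.FlatMor.K596.StageCorr

open Groth.Agent.Ega43.LimDesc

/-- `(f, g) : U ⟶ X ×_S B` is étale. -/
def EtOver {X S B U : Scheme.{u}} (p : X ⟶ S) (s : B ⟶ S) (f : U ⟶ X) (g : U ⟶ B) : Prop :=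
  ∃ h : f ≫ p = g ≫ s, Etale (pullback.lift f g h : U ⟶ pullback p s)

section

variable {X S B B' U U' : Scheme.{u}} {p : X ⟶ S} {s : B ⟶ S} {f : U ⟶ X} {g : U ⟶ B}

theorem EtOver.w (h : EtOver p s f g) : f ≫ p = g ≫ s := h.1

theorem isPullback_snd (d : B' ⟶ B) :
    IsPullback (pullback.lift (pullback.fst p (d ≫ s)) (pullback.snd p (d ≫ s) ≫ d)
        (by rw [Category.assoc, pullback.condition]) : pullback p (d ≫ s) ⟶ pullback p s)
      (pullback.snd p (d ≫ s)) (pullback.snd p s) d := by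
  refine IsPullback.of_right (h₁₂ := pullback.fst p s) (v₁₃ := p) (h₂₂ := s) ?_ ?_
    (IsPullback.of_hasPullback p s)
  · rw [pullback.lift_fst]
    exact IsPullback.of_hasPullback p (d ≫ s)
  · rw [pullback.lift_snd]

theorem isPullback_lift {d : B' ⟶ B} {a : U' ⟶ U} {g' : U' ⟶ B'} (h : f ≫ p = g ≫ s)
    (sq : IsPullback a g' g d) (h' : (a ≫ f) ≫ p = g' ≫ d ≫ s) :
    IsPullback a (pullback.lift (a ≫ f) g' h') (pullback.lift f g h)
      (pullback.lift (pullback.fst p (d ≫ s)) (pullback.snd p (d ≫ s) ≫ d)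
        (by rw [Category.assoc, pullback.condition])) := by
  refine IsPullback.of_bot (v₂₁ := pullback.snd p (d ≫ s)) (v₂₂ := pullback.snd p s) (h₃₁ := d)
    ?_ ?_ (isPullback_snd d)
  · rw [pullback.lift_snd, pullback.lift_snd]
    exact sq
  · apply pullback.hom_ext
    · rw [Category.assoc, Category.assoc, pullback.lift_fst, pullback.lift_fst, pullback.lift_fst]
    · rw [Category.assoc, Category.assoc, pullback.lift_snd, pullback.lift_snd,
        pullback.lift_snd_assoc, sq.w]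

/-- Base change. -/
theorem EtOver.bc (h : EtOver p s f g) {d : B' ⟶ B} {a : U' ⟶ U} {g' : U' ⟶ B'}
    (sq : IsPullback a g' g d) : EtOver p (d ≫ s) (a ≫ f) g' := by
  obtain ⟨hw, h⟩ := h
  have hw' : (a ≫ f) ≫ p = g' ≫ d ≫ s := by
    rw [Category.assoc, hw, ← Category.assoc, sq.w, Category.assoc]
  exact ⟨hw', MorphismProperty.of_isPullback (isPullback_lift hw sq hw') h⟩

/-- If `s` is étale, then `f` is étale. -/
theorem EtOver.etale (h : EtOver p s f g) [Etale s] : Etale f := by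
  obtain ⟨hw, h⟩ := h
  have h1 : f = pullback.lift f g hw ≫ pullback.fst p s := (pullback.lift_fst _ _ _).symm
  rw [h1]
  infer_instance

theorem EtOver.comp (h : EtOver p s f g) (j : U' ⟶ U) [Etale j] : EtOver p s (j ≫ f) (j ≫ g) := by
  obtain ⟨hw, h⟩ := h
  refine ⟨by rw [Category.assoc, hw, Category.assoc], ?_⟩
  have h1 : pullback.lift (j ≫ f) (j ≫ g) (by rw [Category.assoc, hw, Category.assoc]) =
      j ≫ pullback.lift f g hw := by
    apply pullback.hom_ext
    · rw [pullback.lift_fst, Category.assoc, pullback.lift_fst]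
    · rw [pullback.lift_snd, Category.assoc, pullback.lift_snd]
  rw [h1]
  infer_instance

end

section

variable {I : Type u} [SmallCategory I] [IsCofiltered I] (D : I ⥤ Scheme.{u}) (c : Cone D)
  (hc : IsLimit c) [∀ (i j : I) (f : i ⟶ j), IsAffineHom (D.map f)]

include hc in
theorem exists_stage_one {i : I} {Ui : Scheme.{u}} (gi : Ui ⟶ D.obj i)
    [LocallyOfFinitePresentation gi] [CompactSpace Ui] [QuasiSeparatedSpace Ui] {U : Scheme.{u}}
    (π : U ⟶ Ui) (g : U ⟶ c.pt) (sq : IsPullback π g gi (c.π.app i)) {X S : Scheme.{u}}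
    (p : X ⟶ S) [LocallyOfFinitePresentation p] (s : D.obj i ⟶ S) (f : U ⟶ X)
    (h : EtOver p (c.π.app i ≫ s) f g) :
    ∃ (j : I) (φ : j ⟶ i) (Uj : Scheme.{u}) (gj : Uj ⟶ D.obj j) (a : Uj ⟶ Ui) (π' : U ⟶ Uj)
      (fj : Uj ⟶ X), IsPullback a gj gi (D.map φ) ∧ IsPullback π' g gj (c.π.app j) ∧
        π' ≫ a = π ∧ π' ≫ fj = f ∧ EtOver p (D.map φ ≫ s) fj gj := by
  -- the map to `X`
  obtain ⟨hw, het⟩ := h
  let ιU : U ≅ (bcCone D c gi).pt := IsPullback.isoIsPullback _ _ sq.flip (bcCone_isPullback₀ D c gi)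
  have hι1 : ιU.hom ≫ bcPtFst D c gi = g := IsPullback.isoIsPullback_hom_fst _ _ _ _
  have hι2 : ιU.hom ≫ bcPtSnd D c gi = π := IsPullback.isoIsPullback_hom_snd _ _ _ _
  let t : bc D gi ⟶ (Functor.const (Over i)).obj S :=
    { app := fun ψ => bcFst D gi ψ ≫ D.map ψ.hom ≫ s
      naturality := fun ψ χ k => by
        rw [bc_map_fst_assoc, ← D.map_comp_assoc, Over.w]
        simp }
  obtain ⟨ψ, fψ, h1, h2⟩ := Scheme.exists_π_app_comp_eq_of_locallyOfFinitePresentation
    (bc D gi) t p (bcCone D c gi) (bcIsLimit D c gi hc) (ιU.inv ≫ f) (by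
      ext ψ
      change (bcCone D c gi).π.app ψ ≫ bcFst D gi ψ ≫ D.map ψ.hom ≫ s = (ιU.inv ≫ f) ≫ p
      rw [bcCone_π_fst_assoc, Category.assoc, hw, ← hι1, Category.assoc, Iso.inv_hom_id_assoc,
        ← c.w ψ.hom, Category.assoc])
  change fψ ≫ p = bcFst D gi ψ ≫ D.map ψ.hom ≫ s at h2
  let πψ : U ⟶ (bc D gi).obj ψ := ιU.hom ≫ (bcCone D c gi).π.app ψ
  have hπψ : IsPullback πψ g (bcFst D gi ψ) (c.π.app ψ.left) :=
    IsPullback.of_iso (bcCone_isPullback D c gi ψ) ιU.symm (Iso.refl _) (Iso.refl _) (Iso.refl _)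
      (by simp [πψ]) (by simp [← hι1]) (by simp) (by simp)
  have hπψf : πψ ≫ fψ = f := by
    rw [Category.assoc, h1, Iso.hom_inv_id_assoc]
  have hπψs : πψ ≫ bcSnd D gi ψ = π := by
    rw [Category.assoc, bcCone_π_snd, hι2]
  have hs : c.π.app ψ.left ≫ D.map ψ.hom ≫ s = c.π.app i ≫ s := by rw [← c.w ψ.hom, Category.assoc]
  have hEt1 : EtOver p (c.π.app ψ.left ≫ D.map ψ.hom ≫ s) (πψ ≫ fψ) g := by
    rw [hs, hπψf]
    exact ⟨hw, het⟩
  obtain ⟨hw1, het1⟩ := hEt1
  have hgψ : LocallyOfFinitePresentation (bcFst D gi ψ) :=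
    MorphismProperty.of_isPullback (bc_isPullback₀ D gi ψ).flip inferInstance
  have hf0 : LocallyOfFinitePresentation (pullback.lift fψ (bcFst D gi ψ) h2) := by
    have h3 : LocallyOfFinitePresentation (pullback.lift fψ (bcFst D gi ψ) h2 ≫
        pullback.snd p (D.map ψ.hom ≫ s)) := by
      rw [pullback.lift_snd]
      exact hgψ
    exact locallyOfFinitePresentation_of_comp _ (pullback.snd p (D.map ψ.hom ≫ s))
  obtain ⟨k, χ, hk⟩ := K134.LimSource.exists_descend_of_compactSource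
    K134.LimIff.descendsRing_etale D c hc ψ.left (pullback.lift fψ (bcFst D gi ψ) h2)
    (pullback.snd p (D.map ψ.hom ≫ s)) _ _ _ πψ (isPullback_snd (c.π.app ψ.left))
    (isPullback_lift h2 hπψ hw1) hf0 het1
  have sq2 := IsPullback.of_hasPullback (bcFst D gi ψ) (D.map χ)
  have hw2 : (pullback.fst (bcFst D gi ψ) (D.map χ) ≫ fψ) ≫ p =
      pullback.snd (bcFst D gi ψ) (D.map χ) ≫ D.map χ ≫ D.map ψ.hom ≫ s := by
    rw [Category.assoc, h2, pullback.condition_assoc]
  have sq3 := isPullback_lift h2 sq2 hw2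
  have hEt2 : Etale (pullback.lift _ _ hw2) := by
    refine Groth.Agent.Smoothlim.LimBase.of_snd @Etale sq3 ?_
    let v : pullback p (D.map χ ≫ D.map ψ.hom ≫ s) ⟶
        pullback (pullback.snd p (D.map ψ.hom ≫ s)) (D.map χ) :=
      pullback.lift _ _ (isPullback_snd (p := p) (s := D.map ψ.hom ≫ s) (D.map χ)).w
    have hv : v ≫ pullback.fst _ _ = _ := pullback.lift_fst _ _ _
    rw [← hv]
    exact Groth.Agent.Smoothlim.LimBase.snd_comp @Etale _ _ v hk
  refine ⟨k, χ ≫ ψ.hom, _, pullback.snd (bcFst D gi ψ) (D.map χ),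
    pullback.fst (bcFst D gi ψ) (D.map χ) ≫ bcSnd D gi ψ,
    sq2.lift πψ (g ≫ c.π.app k) (by rw [hπψ.w, Category.assoc, c.w]),
    pullback.fst (bcFst D gi ψ) (D.map χ) ≫ fψ, ?_, ?_, ?_, ?_, ?_⟩
  · rw [D.map_comp]
    exact sq2.flip.paste_vert (bc_isPullback₀ D gi ψ) |>.flip
  · refine IsPullback.of_right ?_ ?_ sq2
    · rw [sq2.lift_fst, c.w]
      exact hπψ
    · rw [sq2.lift_snd]
  · rw [sq2.lift_fst_assoc, hπψs]
  · rw [sq2.lift_fst_assoc, hπψf]
  · rw [D.map_comp, Category.assoc]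
    exact ⟨hw2, hEt2⟩

include hc in
/-- An étale correspondence `X ×_S c.pt ⟵ U ⟶ Y ×_T c.pt` over the limit comes from a stage. -/
theorem exists_stage [∀ i, CompactSpace (D.obj i)] [∀ i, QuasiSeparatedSpace (D.obj i)]
    {U : Scheme.{u}} (g : U ⟶ c.pt) [LocallyOfFinitePresentation g] [QuasiCompact g]
    [QuasiSeparated g] {X S Y T : Scheme.{u}} (p : X ⟶ S) [LocallyOfFinitePresentation p]
    (q : Y ⟶ T) [LocallyOfFinitePresentation q] {i : I} (s : D.obj i ⟶ S) (t : D.obj i ⟶ T)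
    (f : U ⟶ X) (e : U ⟶ Y) (hf : EtOver p (c.π.app i ≫ s) f g)
    (he : EtOver q (c.π.app i ≫ t) e g) :
    ∃ (j : I) (φ : j ⟶ i) (Uj : Scheme.{u}) (gj : Uj ⟶ D.obj j) (π : U ⟶ Uj) (fj : Uj ⟶ X)
      (ej : Uj ⟶ Y), IsPullback π g gj (c.π.app j) ∧ π ≫ fj = f ∧ π ≫ ej = e ∧
        EtOver p (D.map φ ≫ s) fj gj ∧ EtOver q (D.map φ ≫ t) ej gj := by
  obtain ⟨i1, U1, g1, π1, h1, h2, h3, sq1⟩ := Groth.Agent.S0591.result D c hc U g
  obtain ⟨k, φ1, φ, -⟩ := IsCofilteredOrEmpty.cone_objs i1 i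
  -- base change to `k`
  have sqk := IsPullback.of_hasPullback g1 (D.map φ1)
  let πk : U ⟶ pullback g1 (D.map φ1) := sqk.lift π1 (g ≫ c.π.app k)
    (by rw [sq1.w, Category.assoc, c.w])
  have sq2 : IsPullback πk g (pullback.snd g1 (D.map φ1)) (c.π.app k) := by
    refine IsPullback.of_right ?_ ?_ sqk
    · rw [sqk.lift_fst, c.w]
      exact sq1
    · rw [sqk.lift_snd]
  have : CompactSpace (pullback g1 (D.map φ1) : Scheme.{u}) :=
    QuasiCompact.compactSpace_of_compactSpace (pullback.snd g1 (D.map φ1))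
  have : QuasiSeparatedSpace (pullback g1 (D.map φ1) : Scheme.{u}) :=
    quasiSeparatedSpace_of_quasiSeparated (pullback.snd g1 (D.map φ1))
  obtain ⟨k2, ψ, U2, g2, a2, π2, f2, h4, h5, h6, h7, h8⟩ := exists_stage_one D c hc
    (pullback.snd g1 (D.map φ1)) πk g sq2 p (D.map φ ≫ s) f (by
      rw [← Category.assoc, c.w]
      exact hf)
  have : LocallyOfFinitePresentation g2 := MorphismProperty.of_isPullback h4 inferInstance
  have : QuasiCompact g2 := MorphismProperty.of_isPullback h4 inferInstance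
  have : QuasiSeparated g2 := MorphismProperty.of_isPullback h4 inferInstance
  have : CompactSpace U2 := QuasiCompact.compactSpace_of_compactSpace g2
  have : QuasiSeparatedSpace U2 := quasiSeparatedSpace_of_quasiSeparated g2
  obtain ⟨k3, χ, U3, g3, a3, π3, e3, h9, h10, h11, h12, h13⟩ := exists_stage_one D c hc g2 π2 g h5
    q (D.map ψ ≫ D.map φ ≫ t) e (by
      rw [← D.map_comp_assoc, ← Category.assoc, c.w]
      exact he)
  refine ⟨k3, χ ≫ ψ ≫ φ, U3, g3, π3, a3 ≫ f2, e3, h10, ?_, h12, ?_, ?_⟩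
  · rw [← Category.assoc, h11, h7]
  · rw [D.map_comp, D.map_comp, Category.assoc, Category.assoc]
    exact h8.bc h9
  · rw [D.map_comp, D.map_comp, Category.assoc, Category.assoc]
    exact h13

end

end Groth.Agent.FlatMor.K596.StageCorr
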