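import Groth.Agent.FlatMor.K596.ApxNbhd
import Mathlib.AlgebraicGeometry.Morphisms.Flat

/-!
# Base change along the completion of a local ring of the base: density at the level of stalks
-/

set_option autoImplicit false

universe u

open AlgebraicGeometry CategoryTheory IsLocalRing

namespace Groth.Agent.FlatMor.K596.StalkDens

open ApxNbhd

/-- algebra version -/
theorem exists_sub_of_closure {O O' R' : Type*} [CommRing O] [IsLocalRing O] [CommRing O']
    [IsLocalRing O'] [CommRing R'] (h : O →+* O') [IsLocalHom h] (t : R' →+* O') (G : Set R')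
    (hG : Subring.closure G = ⊤)
    (hloc : ∀ z : O', ∃ a b : R', IsUnit (t b) ∧ t b * z = t a) (n : ℕ)
    (hd : ∀ a ∈ G, ∃ r : O, t a - h r ∈ maximalIdeal O' ^ n) (z : O') :
    ∃ r : O, z - h r ∈ maximalIdeal O' ^ n := by
  rcases Nat.eq_zero_or_pos n with rfl | hn
  · exact ⟨0, by rw [pow_zero, Ideal.one_eq_top]; exact Submodule.mem_top⟩
  have key : ∀ a : R', ∃ r : O, t a - h r ∈ maximalIdeal O' ^ n := by
    intro a
    have ha : a ∈ Subring.closure G := by rw [hG]; exact Subring.mem_top a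
    induction ha using Subring.closure_induction with
    | mem x hx => exact hd x hx
    | zero => exact ⟨0, by simp⟩
    | one => exact ⟨1, by simp⟩
    | add x y _ _ hx hy =>
      obtain ⟨r, hr⟩ := hx
      obtain ⟨s, hs⟩ := hy
      refine ⟨r + s, ?_⟩
      have := Ideal.add_mem _ hr hs
      rw [map_add, map_add]
      convert this using 1
      ring
    | neg x _ hx =>
      obtain ⟨r, hr⟩ := hx
      refine ⟨-r, ?_⟩
      have := Ideal.neg_mem_iff _ |>.mpr hr
      rw [map_neg, map_neg]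
      convert this using 1
      ring
    | mul x y _ _ hx hy =>
      obtain ⟨r, hr⟩ := hx
      obtain ⟨s, hs⟩ := hy
      refine ⟨r * s, ?_⟩
      have := Ideal.add_mem _ (Ideal.mul_mem_right (t y) _ hr) (Ideal.mul_mem_left _ (h r) hs)
      rw [map_mul, map_mul]
      convert this using 1
      ring
  obtain ⟨a, b, hb, hab⟩ := hloc z
  obtain ⟨ra, hra⟩ := key a
  obtain ⟨rb, hrb⟩ := key b
  have hub : IsUnit rb := by
    refine isUnit_of_map_unit h _ ?_
    by_contra hc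
    have h1 : h rb ∈ maximalIdeal O' := hc
    have h2 := Ideal.add_mem _ (Ideal.pow_le_self hn.ne' hrb) h1
    rw [sub_add_cancel] at h2
    exact h2 hb
  obtain ⟨rb, rfl⟩ := hub
  refine ⟨↑rb⁻¹ * ra, ?_⟩
  have h3 : z - h (↑rb⁻¹ * ra) = h ↑rb⁻¹ * ((t a - h ra) - (t b - h rb) * z) := by
    have h4 : h ↑rb⁻¹ * h rb = 1 := by rw [← map_mul, Units.inv_mul, map_one]
    rw [map_mul]
    linear_combination (h ↑rb⁻¹) * hab - z * h4
  rw [h3]
  exact Ideal.mul_mem_left _ _ (Ideal.sub_mem _ hra (Ideal.mul_mem_right _ _ hrb))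

theorem germ_stalk_frac {Y : Scheme.{u}} {V : Y.Opens} (hV : IsAffineOpen V) (y : Y) (hy : y ∈ V)
    (z : Y.presheaf.stalk y) : ∃ a b : Γ(Y, V), IsUnit ((Y.presheaf.germ V y hy).hom b) ∧
      (Y.presheaf.germ V y hy).hom b * z = (Y.presheaf.germ V y hy).hom a := by
  let _ : Algebra Γ(Y, V) (Y.presheaf.stalk y) := (Y.presheaf.germ V y hy).hom.toAlgebra
  have hloc : IsLocalization.AtPrime (Y.presheaf.stalk y) (hV.primeIdealOf ⟨y, hy⟩).asIdeal :=
    hV.isLocalization_stalk ⟨y, hy⟩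
  obtain ⟨⟨a, b⟩, hab⟩ := IsLocalization.surj (hV.primeIdealOf ⟨y, hy⟩).asIdeal.primeCompl z
  refine ⟨a, b, IsLocalization.map_units _ b, ?_⟩
  rw [mul_comm]
  exact hab

theorem mem_of_closedPoint {Λ : Type u} [CommRing Λ] [IsLocalRing Λ] {Y : Scheme.{u}}
    (iY : Y ⟶ Spec (CommRingCat.of Λ)) (y : Y) (hy : iY y = closedPoint Λ) (a : Λ)
    (ha : a ∈ maximalIdeal Λ) :
    ((iY.stalkMap y).hom.comp (toStalk (iY y))) a ∈ maximalIdeal (Y.presheaf.stalk y) := by
  have h1 : toStalk (iY y) a ∈ maximalIdeal _ := by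
    let _ := (toStalk (iY y)).toAlgebra
    have := isLocalization_toStalk (iY y)
    refine (IsLocalization.AtPrime.to_map_mem_maximal_iff _ (iY y).asIdeal a).mpr ?_
    rw [hy]
    exact ha
  exact (IsLocalRing.map_maximalIdeal_le (iY.stalkMap y).hom) (Ideal.mem_map_of_mem _ h1)

/-- `Y = X ×_S Spec Λ`, `O_{S,s} → Λ` inducing isomorphisms modulo powers of the maximal ideals, `y`
over the closed point: `O_{X,x} → O_{Y,y}` is surjective modulo powers of the maximal ideal. -/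
theorem exists_sub_stalk {Λ : Type u} [CommRing Λ] [IsLocalRing Λ] {X Y S : Scheme.{u}}
    {g : Y ⟶ X} {iY : Y ⟶ Spec (CommRingCat.of Λ)} {p : X ⟶ S} {t : Spec (CommRingCat.of Λ) ⟶ S}
    (H : IsPullback g iY p t) (y : Y) (hy : iY y = closedPoint Λ) {s : S} (hs : p (g y) = s)
    (θ : S.presheaf.stalk s →+* Λ) (hθ : IsCplMap θ)
    (ht : t = Spec.map (CommRingCat.ofHom θ) ≫ S.fromSpecStalk s) (n : ℕ)
    (z : Y.presheaf.stalk y) :
    ∃ r : X.presheaf.stalk (g y), z - (g.stalkMap y).hom r ∈ maximalIdeal _ ^ n := by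
  have hθl : IsLocalHom θ := hθ.isLocalHom
  subst hs
  obtain ⟨_, ⟨S₀, hS₀, rfl⟩, hxS, -⟩ :=
    S.isBasis_affineOpens.exists_subset_of_mem_open (Set.mem_univ (p (g y))) isOpen_univ
  obtain ⟨_, ⟨U, hU, rfl⟩, hxU, hUS⟩ :=
    X.isBasis_affineOpens.exists_subset_of_mem_open (show g y ∈ (p ⁻¹ᵁ S₀ : Set X) from hxS)
      (p ⁻¹ᵁ S₀).2
  have htc : t (closedPoint Λ) = p (g y) := by
    rw [ht]
    exact closedPoint_map _ θ
  have hT : (⊤ : (Spec (CommRingCat.of Λ)).Opens) ≤ t ⁻¹ᵁ S₀ := by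
    have h1 : closedPoint Λ ∈ t ⁻¹ᵁ S₀ := by
      change t (closedPoint Λ) ∈ S₀
      rw [htc]
      exact hxS
    exact (IsLocalRing.closed_point_mem_iff.mp h1).ge
  obtain ⟨V, hV0⟩ : ∃ V : Y.Opens, V = g ⁻¹ᵁ U ⊓ iY ⁻¹ᵁ ⊤ := ⟨_, rfl⟩
  have hVg : V ≤ g ⁻¹ᵁ U := by rw [hV0]; exact inf_le_left
  have hyV : y ∈ V := by rw [hV0]; exact ⟨hxU, trivial⟩
  have haff : IsAffine (S₀ : Scheme.{u}) := hS₀
  have haff2 : IsAffine (U : Scheme.{u}) := hU
  have haff3 : IsAffine ((⊤ : (Spec (CommRingCat.of Λ)).Opens) : Scheme.{u}) := isAffineOpen_top _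
  have hV : IsAffineOpen V :=
    .of_isIso (Scheme.Hom.isPullback_resLE H hT hUS hV0).isoPullback.hom
  have hpush := (isIso_pushoutSection_iff H hT hUS hV0).mp
    (isIso_pushoutSection_of_isAffineOpen H hT hUS hV0 hS₀ (isAffineOpen_top _) hU)
  have hgen := CommRingCat.closure_range_union_range_eq_top_of_isPushout hpush
  refine exists_sub_of_closure (g.stalkMap y).hom (Y.presheaf.germ V y hyV).hom _ hgen
    (germ_stalk_frac hV y hyV) n ?_ z
  rintro _ (⟨a, rfl⟩ | ⟨a, rfl⟩)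
  · refine ⟨(X.presheaf.germ U (g y) hxU).hom a, ?_⟩
    have h1 : g.appLE U V hVg ≫ Y.presheaf.germ V y hyV =
        X.presheaf.germ U (g y) hxU ≫ g.stalkMap y := by
      rw [Scheme.Hom.germ_stalkMap, Scheme.Hom.appLE, Category.assoc]
      congr 1
      exact Y.presheaf.germ_res _ _ _
    have h2 := DFunLike.congr_fun (congrArg CommRingCat.Hom.hom h1) a
    have h3 : (Y.presheaf.germ V y hyV).hom ((g.appLE U V hVg).hom a) -
        (g.stalkMap y).hom ((X.presheaf.germ U (g y) hxU).hom a) = 0 := sub_eq_zero.mpr h2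
    rw [h3]
    exact Submodule.zero_mem _
  · obtain ⟨r0, hr0⟩ := hθ.exists_sub n ((Scheme.ΓSpecIso (CommRingCat.of Λ)).hom.hom a)
    refine ⟨(p.stalkMap (g y)).hom r0, ?_⟩
    have h1 : iY.appLE ⊤ V (by rw [hV0]; exact inf_le_right) ≫ Y.presheaf.germ V y hyV =
        (Spec (CommRingCat.of Λ)).presheaf.germ ⊤ (iY y) trivial ≫ iY.stalkMap y := by
      rw [Scheme.Hom.germ_stalkMap, Scheme.Hom.appLE, Category.assoc]
      congr 1
      exact Y.presheaf.germ_res _ _ _
    have h2 := DFunLike.congr_fun (congrArg CommRingCat.Hom.hom h1) a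
    let T : Λ →+* Y.presheaf.stalk y := (iY.stalkMap y).hom.comp (toStalk (iY y))
    have h3 : (Y.presheaf.germ V y hyV).hom
        ((iY.appLE ⊤ V (by rw [hV0]; exact inf_le_right)).hom a) =
        T ((Scheme.ΓSpecIso (CommRingCat.of Λ)).hom.hom a) := by
      refine h2.trans ?_
      change _ = (iY.stalkMap y).hom (((Spec (CommRingCat.of Λ)).presheaf.germ ⊤ (iY y) trivial).hom
        ((Scheme.ΓSpecIso (CommRingCat.of Λ)).inv.hom
          ((Scheme.ΓSpecIso (CommRingCat.of Λ)).hom.hom a)))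
      have h5 : (Scheme.ΓSpecIso (CommRingCat.of Λ)).inv.hom
          ((Scheme.ΓSpecIso (CommRingCat.of Λ)).hom.hom a) = a := by
        rw [← CommRingCat.comp_apply, Iso.hom_inv_id]
        rfl
      rw [h5]
      rfl
    have h4 : CommRingCat.ofHom θ ≫ CommRingCat.ofHom T =
        p.stalkMap (g y) ≫ g.stalkMap y := by
      apply eq_of_fromSpecStalk
      rw [Spec.map_comp, Spec.map_comp, Category.assoc, Category.assoc, ← ht,
        Scheme.SpecMap_stalkMap_fromSpecStalk, Scheme.SpecMap_stalkMap_fromSpecStalk_assoc, H.w,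
        ← Scheme.SpecMap_stalkMap_fromSpecStalk_assoc, fromSpecStalk_Spec, ← Spec.map_comp_assoc]
      rfl
    have h6 := DFunLike.congr_fun (congrArg CommRingCat.Hom.hom h4) r0
    have h7 : T (θ r0) = (g.stalkMap y).hom ((p.stalkMap (g y)).hom r0) := h6
    have h8 : (maximalIdeal Λ).map T ≤ maximalIdeal _ :=
      Ideal.map_le_iff_le_comap.mpr (fun b hb => mem_of_closedPoint iY y hy b hb)
    have h9 := Ideal.mem_map_of_mem T hr0
    rw [Ideal.map_pow] at h9
    have h10 := Ideal.pow_right_mono h8 n h9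
    rw [map_sub, h7, ← h3] at h10
    exact h10

end Groth.Agent.FlatMor.K596.StalkDens
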