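import Groth.Agent.FlatMor.K596.ApxCpl
import Groth.Agent.FlatMor.K596.StalkDens
import Groth.Agent.FlatMor.K596.ResMono
import Groth.Agent.FlatMor.K596.StageCorr

/-!
# Étale correspondences over a complete local base from isomorphisms of completions
-/

set_option autoImplicit false

universe u

open AlgebraicGeometry CategoryTheory Limits IsLocalRing

namespace Groth.Agent.FlatMor.K596.CorrCpl

open ApxNbhd StageCorr

/-- maps to `U ⟶ Z` which are congruent agree on the residue field -/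
theorem residue_comp_eq {U Z : Scheme.{u}} (f : U ⟶ Z) (v : U) {z : Z} (hv : f v = z) {C : Type u}
    [CommRing C] [IsLocalRing C] (ψ : U.presheaf.stalk v →+* C) (φ : Z.presheaf.stalk z →+* C)
    (h : ∀ b, ψ ((f.stalkMap v).hom ((Z.presheaf.stalkCongr (.of_eq hv)).inv.hom b)) - φ b ∈
      maximalIdeal C) :
    Spec.map (CommRingCat.ofHom (residue C)) ≫ Spec.map (CommRingCat.ofHom ψ) ≫
      U.fromSpecStalk v ≫ f =
    Spec.map (CommRingCat.ofHom (residue C)) ≫ Spec.map (CommRingCat.ofHom φ) ≫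
      Z.fromSpecStalk z := by
  have h1 : (Z.presheaf.stalkCongr (.of_eq hv)).inv ≫ f.stalkMap v ≫ CommRingCat.ofHom ψ ≫
      CommRingCat.ofHom (residue C) = CommRingCat.ofHom φ ≫ CommRingCat.ofHom (residue C) := by
    ext b
    have h2 := (residue_eq_zero_iff _).mpr (h b)
    rw [map_sub, sub_eq_zero] at h2
    exact h2
  have h3 := congrArg (fun g => Spec.map g ≫ Z.fromSpecStalk z) h1
  dsimp only at h3
  rw [Spec.map_comp, Spec.map_comp, Spec.map_comp, Spec.map_comp, Category.assoc, Category.assoc,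
    Category.assoc, Category.assoc, stalkCongr_fromSpecStalk (.of_eq hv),
    Scheme.SpecMap_stalkMap_fromSpecStalk] at h3
  exact h3

theorem exists_corr {X Y S T : Scheme.{u}} (p : X ⟶ S) [LocallyOfFiniteType p] (q : Y ⟶ T)
    [LocallyOfFiniteType q] (x : X) {Λ : Type u} [CommRing Λ] [IsLocalRing Λ] [IsNoetherianRing Λ]
    (θS : S.presheaf.stalk (p x) →+* Λ) (hθS : IsCplMap θS)
    (σ' : Spec (CommRingCat.of Λ) ⟶ T) (yσ : ↑(pullback q σ'))
    (hyc : pullback.snd q σ' yσ = closedPoint Λ)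
    {C : Type u} [CommRing C] [IsLocalRing C] [IsNoetherianRing C] [HenselianRing C (maximalIdeal C)]
    (θY : (pullback q σ').presheaf.stalk yσ →+* C) (hθY : IsCplMap θY)
    (hreg : @CAlg.IsRegularHom ((pullback q σ').presheaf.stalk yσ) _ C _ θY.toAlgebra)
    (θX : X.presheaf.stalk x →+* C) (hθX : IsCplMap θX)
    (hcompat : (Spec.map (CommRingCat.ofHom θX) ≫ X.fromSpecStalk x) ≫ p =
      (Spec.map (CommRingCat.ofHom θY) ≫ (pullback q σ').fromSpecStalk yσ ≫ pullback.snd q σ') ≫
        Spec.map (CommRingCat.ofHom θS) ≫ S.fromSpecStalk (p x)) :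
    ∃ (U : Scheme.{u}) (g : U ⟶ Spec (CommRingCat.of Λ)) (f : U ⟶ X) (e : U ⟶ Y) (k : Type u)
      (_ : Field k) (κ : Spec (CommRingCat.of k) ⟶ U),
      LocallyOfFinitePresentation g ∧ QuasiCompact g ∧ QuasiSeparated g ∧
      EtOver p (Spec.map (CommRingCat.ofHom θS) ≫ S.fromSpecStalk (p x)) f g ∧
      EtOver q σ' e g ∧ (κ ≫ g) (closedPoint k) = closedPoint Λ ∧ (κ ≫ f) (closedPoint k) = x ∧
      (κ ≫ e) (closedPoint k) = pullback.fst q σ' yσ ∧ Mono (κ ≫ f) ∧
      ∀ {Z : Scheme.{u}} (a b : Z ⟶ Spec (CommRingCat.of k)),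
        a ≫ κ ≫ e = b ≫ κ ≫ e → a ≫ κ ≫ g = b ≫ κ ≫ g → a = b := by
  have hθXl : IsLocalHom θX := hθX.isLocalHom
  have hθYl : IsLocalHom θY := hθY.isLocalHom
  let tS : Spec (CommRingCat.of Λ) ⟶ S := Spec.map (CommRingCat.ofHom θS) ≫ S.fromSpecStalk (p x)
  let c' : Spec (CommRingCat.of C) ⟶ pullback p tS :=
    pullback.lift (Spec.map (CommRingCat.ofHom θX) ≫ X.fromSpecStalk x)
      (Spec.map (CommRingCat.ofHom θY) ≫ (pullback q σ').fromSpecStalk yσ ≫ pullback.snd q σ')
      hcompat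
  let x' : ↑(pullback p tS) := c' (closedPoint C)
  let φ' : (pullback p tS).presheaf.stalk x' →+* C := (Scheme.stalkClosedPointTo c').hom
  have hφ'l : IsLocalHom φ' := Scheme.isLocalHom_stalkClosedPointTo' c'
  have hφ'c : Spec.map (CommRingCat.ofHom φ') ≫ (pullback p tS).fromSpecStalk x' = c' :=
    Scheme.Spec_stalkClosedPointTo_fromSpecStalk c'
  have hc1 : c' ≫ pullback.fst p tS = Spec.map (CommRingCat.ofHom θX) ≫ X.fromSpecStalk x :=
    pullback.lift_fst _ _ _
  have hc2 : c' ≫ pullback.snd p tS = Spec.map (CommRingCat.ofHom θY) ≫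
      (pullback q σ').fromSpecStalk yσ ≫ pullback.snd q σ' := pullback.lift_snd _ _ _
  have hNΛ : IsLocallyNoetherian (Spec (CommRingCat.of Λ)) := inferInstance
  have hNX : IsLocallyNoetherian (pullback p tS) :=
    LocallyOfFiniteType.isLocallyNoetherian (pullback.snd p tS)
  obtain ⟨U, e0, f0, v, ψ, hU, he0, hfe, hfv, hev, hψl, hψ, hψe, hev2, hφψ⟩ :=
    ApxNbhd.exists_nbhd (pullback.snd q σ') (pullback.snd p tS) yσ x' θY hθY hreg φ'
      (by rw [← Category.assoc, hφ'c, hc2]) 2 two_pos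
  have hx' : pullback.fst p tS x' = x := by
    change (c' ≫ pullback.fst p tS) (closedPoint C) = x
    rw [hc1]
    exact closedPoint_map x θX
  have hx's : pullback.snd p tS x' = closedPoint Λ := by
    change (c' ≫ pullback.snd p tS) (closedPoint C) = _
    rw [hc2, ← Category.assoc, Scheme.Hom.comp_apply, closedPoint_map, hyc]
  -- the map to `C` from the local ring at `x'`
  have hφ'cpl : IsCplMap φ' := by
    refine IsCplMap.of_comp_of_surj (h := ((pullback.fst p tS).stalkMap x').hom) ?_ ?_ ?_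
    · refine isCplMap_stalk hx' hθX _ ?_
      rw [← hc1, ← hφ'c, CommRingCat.ofHom_comp, Spec.map_comp, Category.assoc, Category.assoc]
      congr 1
      exact Scheme.SpecMap_stalkMap_fromSpecStalk _
    · intro n z
      exact StalkDens.exists_sub_stalk (IsPullback.of_hasPullback p tS) x' hx's
        (congrArg p hx') θS hθS rfl n z
    · intro r hr
      exact IsLocalRing.map_maximalIdeal_le ((pullback.fst p tS).stalkMap x').hom
        (Ideal.mem_map_of_mem _ hr)
  have hN1 : IsNoetherianRing ((pullback p tS).presheaf.stalk x') := inferInstance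
  have hf0cpl : IsCplMap (f0.stalkMap v).hom := by
    refine (ApxCpl.isCplMap_of_congr_inv f0 v hfv ψ ?_).of_comp hψ
    exact IsCplMap.of_congr hφ'cpl (fun b => hφψ hfv b)
  have hlf : LocallyOfFiniteType (f0 ≫ pullback.snd p tS) := by
    rw [hfe]
    infer_instance
  have hlf0 : LocallyOfFiniteType f0 := locallyOfFiniteType_of_comp f0 (pullback.snd p tS)
  obtain ⟨W, hvW, hWet⟩ := ApxCpl.exists_open_etale f0 v hf0cpl
  obtain ⟨W', hW', hvW', hWW'⟩ : ∃ W' : U.Opens, IsAffineOpen W' ∧ v ∈ W' ∧ W' ≤ W := by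
    obtain ⟨W', h1, h2, h3⟩ := exists_isAffineOpen_mem_and_subset hvW
    exact ⟨W', h1, h2, h3⟩
  have haff : IsAffine (W' : Scheme.{u}) := hW'
  have het1 : Etale (W'.ι ≫ f0) := by
    have h1 : W'.ι ≫ f0 = U.homOfLE hWW' ≫ W.ι ≫ f0 := by rw [Scheme.homOfLE_ι_assoc]
    rw [h1]
    infer_instance
  have het2 : Etale (W'.ι ≫ e0) := inferInstance
  let κ0 : Spec (CommRingCat.of (ResidueField C)) ⟶ U :=
    Spec.map (CommRingCat.ofHom (residue C)) ≫ Spec.map (CommRingCat.ofHom ψ) ≫ U.fromSpecStalk v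
  have hκ0 : ∀ z, κ0 z = v := by
    intro z
    have hz : Spec.map (CommRingCat.ofHom (residue C)) z = closedPoint C := by
      have : IsLocalHom (residue C) := inferInstance
      have hz' : z = closedPoint (ResidueField C) :=
        Subsingleton.elim (α := PrimeSpectrum (ResidueField C)) _ _
      rw [hz']
      exact IsLocalRing.comap_closedPoint (residue C)
    change (Spec.map (CommRingCat.ofHom (residue C)) ≫ Spec.map (CommRingCat.ofHom ψ) ≫
      U.fromSpecStalk v) z = v
    rw [Scheme.Hom.comp_apply, hz]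
    exact closedPoint_map v ψ
  let κ : Spec (CommRingCat.of (ResidueField C)) ⟶ (W' : Scheme.{u}) :=
    IsOpenImmersion.lift W'.ι κ0 (by
      rintro _ ⟨z, rfl⟩
      rw [hκ0]
      simpa using hvW')
  have hκ : κ ≫ W'.ι = κ0 := IsOpenImmersion.lift_fac _ _ _
  have hκe : κ ≫ W'.ι ≫ e0 = Spec.map (CommRingCat.ofHom (residue C)) ≫
      Spec.map (CommRingCat.ofHom θY) ≫ (pullback q σ').fromSpecStalk yσ := by
    rw [← Category.assoc, hκ, Category.assoc, Category.assoc, hψe]
  have hκf : κ ≫ W'.ι ≫ f0 = Spec.map (CommRingCat.ofHom (residue C)) ≫ c' := by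
    rw [← Category.assoc, hκ, Category.assoc, Category.assoc,
      residue_comp_eq f0 v hfv ψ φ' (fun b => Ideal.pow_le_self two_ne_zero (hφψ hfv b)), hφ'c]
  have hmonoY : Mono (κ ≫ W'.ι ≫ e0) := by
    rw [hκe]
    exact ResMono.mono_residue yσ θY hθY
  have hg : W'.ι ≫ f0 ≫ pullback.snd p tS = W'.ι ≫ e0 ≫ pullback.snd q σ' := by rw [hfe]
  have hzC : Spec.map (CommRingCat.ofHom (residue C)) (closedPoint (ResidueField C)) =
      closedPoint C := IsLocalRing.comap_closedPoint (residue C)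
  have hpe : (κ ≫ W'.ι ≫ e0) (closedPoint (ResidueField C)) = yσ := by
    rw [hκe, Scheme.Hom.comp_apply, hzC]
    exact closedPoint_map yσ θY
  have hpf : (κ ≫ W'.ι ≫ f0) (closedPoint (ResidueField C)) = x' := by
    rw [hκf, Scheme.Hom.comp_apply, hzC]
  refine ⟨W', W'.ι ≫ e0 ≫ pullback.snd q σ', W'.ι ≫ f0 ≫ pullback.fst p tS,
    W'.ι ≫ e0 ≫ pullback.fst q σ', ResidueField C, inferInstance, κ, ?_, inferInstance,
    inferInstance, ?_, ?_, ?_, ?_, ?_, ?_, ?_⟩
  · rw [LocallyOfFinitePresentation.iff_locallyOfFiniteType]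
    infer_instance
  · have hw : (W'.ι ≫ f0 ≫ pullback.fst p tS) ≫ p = (W'.ι ≫ e0 ≫ pullback.snd q σ') ≫ tS := by
      rw [← hg, Category.assoc, Category.assoc, Category.assoc, Category.assoc,
        pullback.condition]
    refine ⟨hw, ?_⟩
    have h1 : pullback.lift (W'.ι ≫ f0 ≫ pullback.fst p tS) (W'.ι ≫ e0 ≫ pullback.snd q σ') hw =
        W'.ι ≫ f0 := by
      apply pullback.hom_ext
      · rw [pullback.lift_fst, Category.assoc]
      · rw [pullback.lift_snd, Category.assoc, hg]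
    rw [h1]
    exact het1
  · have hw : (W'.ι ≫ e0 ≫ pullback.fst q σ') ≫ q = (W'.ι ≫ e0 ≫ pullback.snd q σ') ≫ σ' := by
      rw [Category.assoc, Category.assoc, Category.assoc, Category.assoc, pullback.condition]
    refine ⟨hw, ?_⟩
    have h1 : pullback.lift (W'.ι ≫ e0 ≫ pullback.fst q σ') (W'.ι ≫ e0 ≫ pullback.snd q σ') hw =
        W'.ι ≫ e0 := by
      apply pullback.hom_ext
      · rw [pullback.lift_fst, Category.assoc]
      · rw [pullback.lift_snd, Category.assoc]
    rw [h1]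
    exact het2
  · rw [← Category.assoc, ← Category.assoc, Scheme.Hom.comp_apply, Category.assoc, hpe, hyc]
  · rw [← Category.assoc, ← Category.assoc, Scheme.Hom.comp_apply, Category.assoc, hpf, hx']
  · rw [← Category.assoc, ← Category.assoc, Scheme.Hom.comp_apply, Category.assoc, hpe]
  · have h1 : κ ≫ W'.ι ≫ f0 ≫ pullback.fst p tS = Spec.map (CommRingCat.ofHom (residue C)) ≫
        Spec.map (CommRingCat.ofHom θX) ≫ X.fromSpecStalk x := by
      rw [← hc1, ← Category.assoc (Spec.map _) c', ← hκf, Category.assoc, Category.assoc]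
    rw [h1]
    exact ResMono.mono_residue x θX hθX
  · intro Z a b h1 h2
    rw [← cancel_mono (κ ≫ W'.ι ≫ e0)]
    apply pullback.hom_ext
    · simpa only [Category.assoc] using h1
    · simpa only [Category.assoc] using h2

end Groth.Agent.FlatMor.K596.CorrCpl
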