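import Groth.Agent.FlatMor.K596.CorrApx

/-!
# Étale local isomorphism from isomorphism of completions after a change of base
-/

set_option autoImplicit false

universe u

open AlgebraicGeometry CategoryTheory Limits IsLocalRing

namespace Groth.Agent.FlatMor.K596.CorrFin

open ApxNbhd StageCorr

theorem isGRing_stalk_spec {Λ : Type u} [CommRing Λ] [IsNoetherianRing Λ] (hG : CAlg.IsGRing Λ)
    (v : Spec (CommRingCat.of Λ)) : CAlg.IsGRing ((Spec (CommRingCat.of Λ)).presheaf.stalk v) := by
  let _ := (toStalk v).toAlgebra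
  have := isLocalization_toStalk v
  have : Algebra.EssFiniteType Λ ((Spec (CommRingCat.of Λ)).presheaf.stalk v) :=
    Algebra.EssFiniteType.of_isLocalization _ v.asIdeal.primeCompl
  exact Apx.isGRing_of_essFiniteType hG

theorem hcompat {X S Z : Scheme.{u}} (p : X ⟶ S) (x : X) {Λ C : Type u} [CommRing Λ] [CommRing C]
    (θS : S.presheaf.stalk (p x) →+* Λ) (snd : Z ⟶ Spec (CommRingCat.of Λ)) (z : Z)
    (θY : Z.presheaf.stalk z →+* C) (θX : X.presheaf.stalk x →+* C)
    (hφ : θX.comp (p.stalkMap x).hom = (θY.comp (snd.stalkMap z).hom).comp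
      ((((Spec (CommRingCat.of Λ))).presheaf.germ ⊤ (snd z) trivial).hom.comp
        ((Scheme.ΓSpecIso (CommRingCat.of Λ)).inv.hom.comp θS))) :
    (Spec.map (CommRingCat.ofHom θX) ≫ X.fromSpecStalk x) ≫ p =
      (Spec.map (CommRingCat.ofHom θY) ≫ Z.fromSpecStalk z ≫ snd) ≫
        Spec.map (CommRingCat.ofHom θS) ≫ S.fromSpecStalk (p x) := by
  have h1 : p.stalkMap x ≫ CommRingCat.ofHom θX = CommRingCat.ofHom θS ≫
      CommRingCat.ofHom (toStalk (snd z)) ≫ snd.stalkMap z ≫ CommRingCat.ofHom θY := by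
    ext1
    exact hφ
  have h2 : (Spec.map (CommRingCat.ofHom θX) ≫ X.fromSpecStalk x) ≫ p =
      Spec.map (p.stalkMap x ≫ CommRingCat.ofHom θX) ≫ S.fromSpecStalk (p x) := by
    rw [Spec.map_comp, Category.assoc, Category.assoc, Scheme.SpecMap_stalkMap_fromSpecStalk]
    rfl
  rw [h2, h1, ← Scheme.SpecMap_stalkMap_fromSpecStalk snd, fromSpecStalk_Spec]
  simp only [Spec.map_comp, Category.assoc]
  rfl

theorem isRegularHom_cpl {R : Type u} [CommRing R] [IsLocalRing R] [IsNoetherianRing R]
    (hG : CAlg.IsGRing R) : @CAlg.IsRegularHom R _ (AdicCompletion (maximalIdeal R) R) _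
      (algebraMap R (AdicCompletion (maximalIdeal R) R)).toAlgebra := by
  have hreg : CAlg.IsRegularHom R (AdicCompletion (maximalIdeal R) R) :=
    (Groth.Agent.CalgB.GRing2.isGRing_iff_of_isLocalRing _).mp hG
  have : (algebraMap R (AdicCompletion (maximalIdeal R) R)).toAlgebra =
      (inferInstance : Algebra _ _) := Algebra.algebra_ext _ _ (fun _ => rfl)
  rw [this]
  exact hreg

end Groth.Agent.FlatMor.K596.CorrFin
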