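import Groth.Agent.FlatMor.K596.CplMap

/-!
# A finitely generated subalgebra pinning down a map modulo a power of the maximal ideal
-/

set_option autoImplicit false

universe u

open IsLocalRing

namespace Groth.Agent.FlatMor.K596.FinSlice

/-- Let `A` be Noetherian, `𝔭` a prime of `A`, `A_𝔭 → C` a map of local rings identifying the
quotients by the powers of the maximal ideals (e.g. the completion), `B` a finite type `A`-algebra
and `γ : B → C` an `A`-algebra map. There is a finite type `B`-algebra `B' ⊆ C` such that every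
`A`-algebra map `B → C` which factors through `B'` is congruent to `γ` modulo `𝔪_C ^ N`. -/
theorem exists_slice {A O C B : Type u} [CommRing A] [IsNoetherianRing A]
    [CommRing O] [IsLocalRing O] [Algebra A O] (𝔭 : Ideal A) [𝔭.IsPrime]
    [IsLocalization.AtPrime O 𝔭] [CommRing C] [IsLocalRing C]
    [Algebra A C] [Algebra O C] [IsScalarTower A O C]
    (hθ : IsCplMap (algebraMap O C)) (hmC : (maximalIdeal O).map (algebraMap O C) = maximalIdeal C)
    [CommRing B] [Algebra A B] [Algebra.FiniteType A B] (γ : B →ₐ[A] C) (N : ℕ) :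
    ∃ (B' : Type u) (_ : CommRing B') (_ : Algebra B B') (τ : B' →+* C),
      Algebra.FiniteType B B' ∧ τ.comp (algebraMap B B') = γ.toRingHom ∧
      ∀ (τ' : B' →+* C), (τ'.comp (algebraMap B B')).comp (algebraMap A B) = algebraMap A C →
        ∀ b : B, γ b - τ' (algebraMap B B' b) ∈ maximalIdeal C ^ N := by
  classical
  have hmO : 𝔭.map (algebraMap A O) = maximalIdeal O :=
    IsLocalization.AtPrime.map_eq_maximalIdeal 𝔭 O
  have hmA : (𝔭 ^ N).map (algebraMap A C) = maximalIdeal C ^ N := by
    rw [Ideal.map_pow, IsScalarTower.algebraMap_eq A O C, ← Ideal.map_map, hmO, hmC]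
  obtain ⟨n, g, hg⟩ := Submodule.fg_iff_exists_fin_generating_family.mp
    (IsNoetherian.noetherian (𝔭 ^ N : Ideal A))
  have hspan : ∀ c : C, c ∈ maximalIdeal C ^ N →
      ∃ w : Fin n → C, ∑ j, w j * algebraMap A C (g j) = c := by
    intro c hc
    rw [← hmA, ← hg] at hc
    change c ∈ (Ideal.span (Set.range g)).map (algebraMap A C) at hc
    rw [Ideal.map_span, ← Set.range_comp] at hc
    exact Ideal.mem_span_range_iff_exists_fun.mp hc
  obtain ⟨S, hS⟩ := (inferInstance : Algebra.FiniteType A B).out
  have hx : ∀ x : B, ∃ (s a : A) (w : Fin n → C), s ∉ 𝔭 ∧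
      algebraMap A C s * γ x - algebraMap A C a = ∑ j, w j * algebraMap A C (g j) := by
    intro x
    obtain ⟨r, hr⟩ := hθ.exists_sub N (γ x)
    obtain ⟨⟨a, s⟩, has⟩ := IsLocalization.surj 𝔭.primeCompl r
    dsimp only at has
    obtain ⟨w, hw⟩ := hspan (algebraMap A C s * (γ x - algebraMap O C r))
      (Ideal.mul_mem_left _ _ hr)
    refine ⟨s, a, w, s.2, ?_⟩
    rw [hw, mul_sub]
    congr 1
    rw [IsScalarTower.algebraMap_apply A O C, IsScalarTower.algebraMap_apply A O C, ← has, map_mul,
      mul_comm]
  choose s a w hs hw using hx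
  let _ : Algebra B C := γ.toRingHom.toAlgebra
  let T : Finset C := S.biUnion (fun x => Finset.univ.image (w x))
  let B' : Subalgebra B C := Algebra.adjoin B (T : Set C)
  have hwB' : ∀ x ∈ S, ∀ j, w x j ∈ B' := fun x hx j => Algebra.subset_adjoin (by
    simp only [T, Finset.coe_biUnion, Set.mem_iUnion]
    exact ⟨x, hx, by simp⟩)
  refine ⟨B', inferInstance, inferInstance, B'.val.toRingHom, ?_, ?_, ?_⟩
  · exact (Subalgebra.fg_iff_finiteType _).mp (Subalgebra.fg_adjoin_finset T)
  · exact B'.val.comp_algebraMap
  · intro τ' hτ'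
    have hτA : ∀ r : A, τ' (algebraMap B B' (algebraMap A B r)) = algebraMap A C r := fun r =>
      DFunLike.congr_fun hτ' r
    let γ' : B →ₐ[A] C := { (τ'.comp (algebraMap B B')) with commutes' := hτA }
    have key : ∀ x ∈ S, γ x - γ' x ∈ maximalIdeal C ^ N := by
      intro x hx
      have h1 : algebraMap B B' (algebraMap A B (s x)) * algebraMap B B' x -
          algebraMap B B' (algebraMap A B (a x)) =
          ∑ j, (⟨w x j, hwB' x hx j⟩ : B') * algebraMap B B' (algebraMap A B (g j)) := by
        have hinj : Function.Injective B'.val := Subtype.val_injective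
        apply hinj
        rw [map_sub, map_mul, map_sum]
        simp only [map_mul]
        have h2 : ∀ b : B, B'.val (algebraMap B B' b) = γ b := fun b => B'.val.commutes b
        simp only [h2, γ.commutes]
        exact hw x
      have h3 := congrArg τ' h1
      rw [map_sub, map_mul, map_sum] at h3
      simp only [map_mul, hτA] at h3
      have h4 : algebraMap A C (s x) * (γ x - γ' x) ∈ maximalIdeal C ^ N := by
        have h5 : algebraMap A C (s x) * (γ x - γ' x) =
            (algebraMap A C (s x) * γ x - algebraMap A C (a x)) -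
              (algebraMap A C (s x) * γ' x - algebraMap A C (a x)) := by ring
        rw [h5]
        refine Ideal.sub_mem _ ?_ ?_
        · rw [hw x]
          refine Ideal.sum_mem _ (fun j _ => Ideal.mul_mem_left _ _ ?_)
          rw [← hmA]
          refine Ideal.mem_map_of_mem _ ?_
          rw [← hg]
          exact Submodule.subset_span ⟨j, rfl⟩
        · change algebraMap A C (s x) * τ' (algebraMap B B' x) - _ ∈ _
          rw [h3]
          refine Ideal.sum_mem _ (fun j _ => Ideal.mul_mem_left _ _ ?_)
          rw [← hmA]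
          refine Ideal.mem_map_of_mem _ ?_
          rw [← hg]
          exact Submodule.subset_span ⟨j, rfl⟩
      have hu : IsUnit (algebraMap A C (s x)) := by
        rw [IsScalarTower.algebraMap_apply A O C]
        exact (IsLocalization.map_units O (⟨s x, hs x⟩ : 𝔭.primeCompl)).map _
      exact (Ideal.unit_mul_mem_iff_mem _ hu).mp h4
    have h6 : (Ideal.Quotient.mkₐ A (maximalIdeal C ^ N)).comp γ =
        (Ideal.Quotient.mkₐ A (maximalIdeal C ^ N)).comp γ' := by
      refine AlgHom.ext_of_adjoin_eq_top hS (fun x hx => ?_)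
      exact Ideal.Quotient.eq.mpr (key x hx)
    intro b
    exact Ideal.Quotient.eq.mp (DFunLike.congr_fun h6 b)

end Groth.Agent.FlatMor.K596.FinSlice
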