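import Groth.Agent.FlatMor.K596.ApxCpl
import Groth.Agent.FlatMor.K596.FinSlice
import Groth.Agent.Ega3B.FlatSec

/-!
# Pinning down a map to the completion modulo a power by a finite type scheme
-/

set_option autoImplicit false

universe u

open AlgebraicGeometry CategoryTheory IsLocalRing

namespace Groth.Agent.FlatMor.K596.SliceSch

open ApxNbhd

theorem exists_slice {T S : Scheme.{u}} [IsLocallyNoetherian S]
    (h : T ⟶ S) [LocallyOfFiniteType h] (t : T) {C : Type u} [CommRing C] [IsLocalRing C]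
    (θ : S.presheaf.stalk (h t) →+* C) (hθ : IsCplMap θ)
    (hmC : (maximalIdeal (S.presheaf.stalk (h t))).map θ = maximalIdeal C)
    (σ : T.presheaf.stalk t →+* C) [IsLocalHom σ] (hσ : σ.comp (h.stalkMap t).hom = θ) (N : ℕ) :
    ∃ (T' : Scheme.{u}) (g : T' ⟶ T) (t' : T') (hg : g t' = t) (τ : T'.presheaf.stalk t' →+* C),
      LocallyOfFiniteType g ∧ QuasiCompact g ∧
      τ.comp ((g.stalkMap t').hom.comp (T.presheaf.stalkCongr (.of_eq hg)).inv.hom) = σ ∧
      ∀ (σ' : T.presheaf.stalk t →+* C), σ'.comp (h.stalkMap t).hom = θ →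
        (∃ τ' : T'.presheaf.stalk t' →+* C,
          τ'.comp ((g.stalkMap t').hom.comp (T.presheaf.stalkCongr (.of_eq hg)).inv.hom) = σ') →
        ∀ a : T.presheaf.stalk t, σ a - σ' a ∈ maximalIdeal C ^ N := by
  obtain ⟨_, ⟨V, hV, rfl⟩, hxV, -⟩ :=
    S.isBasis_affineOpens.exists_subset_of_mem_open (Set.mem_univ (h t)) isOpen_univ
  obtain ⟨_, ⟨W₀, hW, rfl⟩, hyW, hWV⟩ :=
    T.isBasis_affineOpens.exists_subset_of_mem_open (show t ∈ (h ⁻¹ᵁ V : Set T) from hxV)
      (h ⁻¹ᵁ V).2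
  have hftB : (h.appLE V W₀ hWV).hom.FiniteType := h.finiteType_appLE hV hW hWV
  have hAN : IsNoetherianRing Γ(S, V) := IsLocallyNoetherian.component_noetherian ⟨V, hV⟩
  have hgerm : (h.stalkMap t).hom.comp (S.presheaf.germ V (h t) hxV).hom =
      (T.presheaf.germ W₀ t hyW).hom.comp (h.appLE V W₀ hWV).hom :=
    congrArg CommRingCat.Hom.hom (Groth.Agent.Ega3B.FlatSec.germ_appLE h hWV t hyW)
  let _ : Algebra Γ(S, V) Γ(T, W₀) := (h.appLE V W₀ hWV).hom.toAlgebra
  let _ : Algebra Γ(S, V) (S.presheaf.stalk (h t)) := (S.presheaf.germ V (h t) hxV).hom.toAlgebra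
  let _ : Algebra (S.presheaf.stalk (h t)) C := θ.toAlgebra
  let _ : Algebra Γ(S, V) C := (θ.comp (S.presheaf.germ V (h t) hxV).hom).toAlgebra
  have : IsScalarTower Γ(S, V) (S.presheaf.stalk (h t)) C := .of_algebraMap_eq' rfl
  have hft : Algebra.FiniteType Γ(S, V) Γ(T, W₀) := hftB
  let γ : Γ(T, W₀) →ₐ[Γ(S, V)] C :=
    { (σ.comp (T.presheaf.germ W₀ t hyW).hom) with
      commutes' := fun r => by
        have h1 := DFunLike.congr_fun hgerm r
        have h2 := DFunLike.congr_fun hσ (S.presheaf.germ V (h t) hxV r)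
        change σ ((T.presheaf.germ W₀ t hyW).hom.comp (h.appLE V W₀ hWV).hom r) = _
        rw [← h1]
        exact h2 }
  have hlocA : IsLocalization.AtPrime (S.presheaf.stalk (h t))
      (hV.primeIdealOf ⟨h t, hxV⟩).asIdeal := hV.isLocalization_stalk ⟨h t, hxV⟩
  obtain ⟨B', _, _, τ0, hB', hτ0, hB'2⟩ := FinSlice.exists_slice
    (O := S.presheaf.stalk (h t)) (hV.primeIdealOf ⟨h t, hxV⟩).asIdeal hθ hmC γ N
  have hσB : Spec.map (CommRingCat.ofHom σ) ≫ T.fromSpecStalk t =
      Spec.map (CommRingCat.ofHom (σ.comp (T.presheaf.germ W₀ t hyW).hom)) ≫ hW.fromSpec := by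
    rw [← hW.fromSpecStalk_eq_fromSpecStalk hyW, IsAffineOpen.fromSpecStalk, ← Spec.map_comp_assoc]
    rfl
  let c : Spec (CommRingCat.of C) ⟶ Spec (CommRingCat.of B') := Spec.map (CommRingCat.ofHom τ0)
  let g : Spec (CommRingCat.of B') ⟶ T :=
    Spec.map (CommRingCat.ofHom (algebraMap Γ(T, W₀) B')) ≫ hW.fromSpec
  let t' : Spec (CommRingCat.of B') := c (closedPoint C)
  let τ : (Spec (CommRingCat.of B')).presheaf.stalk t' →+* C := (Scheme.stalkClosedPointTo c).hom
  have hτc : Spec.map (CommRingCat.ofHom τ) ≫ (Spec (CommRingCat.of B')).fromSpecStalk t' = c :=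
    Scheme.Spec_stalkClosedPointTo_fromSpecStalk c
  have hcg : c ≫ g = Spec.map (CommRingCat.ofHom σ) ≫ T.fromSpecStalk t := by
    rw [hσB]
    change Spec.map _ ≫ Spec.map _ ≫ hW.fromSpec = _
    rw [← Spec.map_comp_assoc, ← CommRingCat.ofHom_comp]
    congr 3
  have hgt : g t' = t := by
    have h1 := closedPoint_map t σ
    rw [← hcg] at h1
    exact h1
  have hft1 : LocallyOfFiniteType (Spec.map (CommRingCat.ofHom (algebraMap Γ(T, W₀) B'))) :=
    HasRingHomProperty.Spec_iff.mpr (RingHom.finiteType_algebraMap.mpr hB')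
  have hft2 : LocallyOfFiniteType g := inferInstance
  refine ⟨Spec (CommRingCat.of B'), g, t', hgt, τ, hft2, ?_, ?_, ?_⟩
  · have hTN : IsLocallyNoetherian T := LocallyOfFiniteType.isLocallyNoetherian h
    infer_instance
  · ext a
    refine ApxCpl.stalk_eq g t' hgt τ σ ?_ a
    rw [← hcg, ← hτc, Category.assoc]
  · rintro σ' hσ' ⟨τ', hτ'⟩ a
    let _ : Algebra Γ(T, W₀) (T.presheaf.stalk t) := (T.presheaf.germ W₀ t hyW).hom.toAlgebra
    have hlocT : IsLocalization.AtPrime (T.presheaf.stalk t) (hW.primeIdealOf ⟨t, hyW⟩).asIdeal :=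
      hW.isLocalization_stalk ⟨t, hyW⟩
    have key : (τ'.comp (toStalk t')).comp (algebraMap Γ(T, W₀) B') =
        σ'.comp (T.presheaf.germ W₀ t hyW).hom := by
      have h1 : T.presheaf.germ W₀ t hyW ≫ (T.presheaf.stalkCongr (.of_eq hgt)).inv ≫
          g.stalkMap t' = CommRingCat.ofHom (algebraMap Γ(T, W₀) B') ≫
            CommRingCat.ofHom (toStalk t') := by
        apply Spec.map_injective
        rw [← cancel_mono hW.fromSpec, Spec.map_comp (CommRingCat.ofHom _), ← fromSpecStalk_Spec]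
        simp only [Spec.map_comp, Category.assoc]
        change _ = _ ≫ g
        rw [← Scheme.SpecMap_stalkMap_fromSpecStalk g, ← stalkCongr_fromSpecStalk (.of_eq hgt),
          ← hW.fromSpecStalk_eq_fromSpecStalk hyW]
        simp only [IsAffineOpen.fromSpecStalk]
      rw [← hτ']
      have h2 := congrArg CommRingCat.Hom.hom h1
      ext b
      exact congrArg τ' (DFunLike.congr_fun h2.symm b)
    refine sub_mem_of_isLocalization (A := Γ(T, W₀)) (O := T.presheaf.stalk t)
      (hW.primeIdealOf ⟨t, hyW⟩).asIdeal.primeCompl (maximalIdeal C ^ N) σ σ' (fun b => ?_) a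
    have h3 := hB'2 (τ'.comp (toStalk t')) (by
      rw [key]
      rw [RingHom.comp_assoc]
      change σ'.comp ((T.presheaf.germ W₀ t hyW).hom.comp (h.appLE V W₀ hWV).hom) = _
      rw [← hgerm, ← RingHom.comp_assoc, hσ']
      rfl) b
    have h4 := DFunLike.congr_fun key b
    rw [RingHom.comp_apply] at h4
    rw [h4] at h3
    exact h3

end Groth.Agent.FlatMor.K596.SliceSch
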